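/-
Glue for subgroups of presented groups that are central extensions of another presented group:
a homomorphism from a presented group onto the quotient of a subgroup by a central subgroup,
the centre of such a subgroup, and a criterion for the extension to be non-split.
-/
import Mathlib

set_option autoImplicit false

namespace Cfsg.Agent.Lib.Helper28.CQ

variable {G : Type*} [Group G]

/-- the generators of `closure (range g)`, as elements of that subgroup, generate it -/
theorem closure_range_subtype_eq_top {ι : Type*} (g : ι → G) (H : Subgroup G)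
    (hH : H = Subgroup.closure (Set.range g)) (gH : ι → H) (hgH : ∀ x, (gH x : G) = g x) :
    Subgroup.closure (Set.range gH) = ⊤ := by
  rw [eq_top_iff]
  rintro ⟨h, hh⟩ _
  have hh' : h ∈ Subgroup.closure (Set.range g) := hH ▸ hh
  have key : ∀ (y : G) (hy : y ∈ Subgroup.closure (Set.range g)),
      ∃ hy' : y ∈ H, (⟨y, hy'⟩ : H) ∈ Subgroup.closure (Set.range gH) := by
    intro y hy
    induction hy using Subgroup.closure_induction with
    | mem y hy =>
      obtain ⟨x, rfl⟩ := hy
      refine ⟨hgH x ▸ (gH x).2, ?_⟩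
      apply Subgroup.subset_closure
      exact ⟨x, Subtype.ext (hgH x)⟩
    | one => exact ⟨H.one_mem, Subgroup.one_mem _⟩
    | mul y z _ _ ihy ihz =>
      obtain ⟨hy', hy''⟩ := ihy
      obtain ⟨hz', hz''⟩ := ihz
      exact ⟨H.mul_mem hy' hz', Subgroup.mul_mem _ hy'' hz''⟩
    | inv y _ ihy =>
      obtain ⟨hy', hy''⟩ := ihy
      exact ⟨H.inv_mem hy', Subgroup.inv_mem _ hy''⟩
  obtain ⟨_, h2⟩ := key h hh'
  exact h2

/-- A homomorphism from a presented group onto the quotient of `H = closure (range g)` by a normal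
subgroup `Z` of `H` containing the values of the relators. -/
theorem exists_surj_hom_quotient {α' : Type*} (relsP : Set (FreeGroup α')) (g : α' → G)
    (H : Subgroup G) (hH : H = Subgroup.closure (Set.range g)) (Z : Subgroup H) [Z.Normal]
    (hrel : ∀ r ∈ relsP, ∃ hz : FreeGroup.lift g r ∈ H, (⟨FreeGroup.lift g r, hz⟩ : H) ∈ Z) :
    ∃ ψ : PresentedGroup relsP →* (H ⧸ Z), Function.Surjective ψ ∧
      ∀ (x : α') (hx : g x ∈ H), ψ (PresentedGroup.of x) = QuotientGroup.mk ⟨g x, hx⟩ := by
  have hmem : ∀ x, g x ∈ H := fun x => hH ▸ Subgroup.subset_closure ⟨x, rfl⟩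
  let gH : α' → H := fun x => ⟨g x, hmem x⟩
  let F : FreeGroup α' →* H := FreeGroup.lift gH
  have hF : ∀ w, (F w : G) = FreeGroup.lift g w := by
    intro w
    have : H.subtype.comp F = FreeGroup.lift g := by
      ext x
      simp [F, gH]
    exact DFunLike.congr_fun this w
  let π : H →* H ⧸ Z := QuotientGroup.mk' Z
  have hlift : ∀ w, FreeGroup.lift (fun x => π (gH x)) w = π (F w) := by
    intro w
    have : FreeGroup.lift (fun x => π (gH x)) = π.comp F := by
      ext x
      simp [F]
    exact DFunLike.congr_fun this w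
  have h : ∀ r ∈ relsP, FreeGroup.lift (fun x => π (gH x)) r = 1 := by
    intro r hr
    obtain ⟨hz, hzZ⟩ := hrel r hr
    rw [hlift]
    have : F r = ⟨FreeGroup.lift g r, hz⟩ := Subtype.ext (hF r)
    rw [this]
    exact (QuotientGroup.eq_one_iff _).2 hzZ
  refine ⟨PresentedGroup.toGroup h, ?_, ?_⟩
  · rw [← MonoidHom.range_eq_top, eq_top_iff]
    have hπ : Function.Surjective π := QuotientGroup.mk'_surjective Z
    have htop := closure_range_subtype_eq_top g H hH gH (fun _ => rfl)
    rintro q _
    obtain ⟨h0, rfl⟩ := hπ q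
    have hh0 : h0 ∈ Subgroup.closure (Set.range gH) := htop ▸ Subgroup.mem_top h0
    have : Subgroup.closure (Set.range gH) ≤ (PresentedGroup.toGroup h).range.comap π := by
      rw [Subgroup.closure_le]
      rintro _ ⟨x, rfl⟩
      exact ⟨PresentedGroup.of x, by rw [PresentedGroup.toGroup.of]⟩
    exact this hh0
  · intro x hx
    rw [PresentedGroup.toGroup.of]
    rfl

/-- the centre of a group whose quotient by a central subgroup has trivial centre -/
theorem center_eq_of_quotient {H : Type*} [Group H] (Z : Subgroup H) [Z.Normal]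
    (hZ : Z ≤ Subgroup.center H) (hQ : Subgroup.center (H ⧸ Z) = ⊥) :
    Subgroup.center H = Z := by
  apply le_antisymm _ hZ
  intro c hc
  have h1 : (QuotientGroup.mk c : H ⧸ Z) ∈ Subgroup.center (H ⧸ Z) := by
    rw [Subgroup.mem_center_iff]
    intro q
    obtain ⟨y, rfl⟩ := QuotientGroup.mk_surjective q
    rw [← QuotientGroup.mk_mul, ← QuotientGroup.mk_mul, (Subgroup.mem_center_iff.1 hc) y]
  rw [hQ, Subgroup.mem_bot] at h1
  exact (QuotientGroup.eq_one_iff c).1 h1

/-- a finite simple group which is not of prime order has trivial centre -/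
theorem center_eq_bot_of_simple {P : Type*} [Group P] [IsSimpleGroup P] [Finite P]
    (hcard : ¬ (Nat.card P).Prime) : Subgroup.center P = ⊥ := by
  rcases IsSimpleGroup.eq_bot_or_eq_top_of_normal (Subgroup.center P) inferInstance with h | h
  · exact h
  · exfalso
    have hcomm : ∀ a b : P, a * b = b * a := fun a b =>
      (Subgroup.mem_center_iff.1 (h ▸ Subgroup.mem_top b) a)
    letI : CommGroup P := { (inferInstance : Group P) with mul_comm := hcomm }
    exact hcard (IsSimpleGroup.prime_card)

/-- A central subgroup of order 2 with a square root of its generator has no complement. -/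
theorem no_complement_of_sq {H : Type*} [Group H] (Z : Subgroup H) (hcard : Nat.card Z = 2)
    (z u : H) (hz : z ∈ Z) (hz1 : z ≠ 1) (hu : u * u = z) (L : Subgroup H) :
    ¬ Z.IsComplement' L := by
  intro hc
  have hidx : L.index = 2 := by rw [hc.index_eq_card, hcard]
  have h1 : u ^ 2 ∈ L := Subgroup.sq_mem_of_index_two hidx u
  rw [pow_two, hu] at h1
  have h2 : z ∈ Z ⊓ L := ⟨hz, h1⟩
  rw [hc.disjoint.eq_bot, Subgroup.mem_bot] at h2
  exact hz1 h2

end Cfsg.Agent.Lib.Helper28.CQ
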