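/-
Verified coset-enumeration certificates, part 2: the static fact table of a Todd–Coxeter run
and the soundness of its checker.

Rows are natural numbers.  Row `k > 0` with `par k < k` denotes the point
`c k = val (gn k) • c (par k)` of a `G`-set, row `0` the base point.  An `E`-fact `ent x u = w + 1`
claims `val x • c u = c w`; an `A`-fact `al k = j + 1` claims `c k = c j`.  Every fact carries a
rank and a justification that only uses facts of smaller rank.  All generators are involutions.
-/
import Cfsg.Agent.Lib.Helper28.TCBase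

set_option autoImplicit false

namespace Cfsg.Agent.Lib.Helper28.TC

/-- The data of a certificate, as plain functions (implemented by table lookups). -/
structure Cert (α : Type) where
  /-- parent row in the definition tree -/
  par : ℕ → ℕ
  /-- generator labelling the tree edge into a row -/
  gn : ℕ → α
  /-- `E`-facts: `0` or target row plus one -/
  ent : α → ℕ → ℕ
  /-- ranks of `E`-facts -/
  rkE : α → ℕ → ℕ
  /-- justification of `E`-facts: kind (0 tree, 1 entry, 2 inverse entry, 3 cycle) -/
  jEk : α → ℕ → ℕ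
  /-- first parameter (row `u0`, or cycle index) -/
  jEa : α → ℕ → ℕ
  /-- position in the cycle (1-based) -/
  jEp : α → ℕ → ℕ
  /-- start row of the cycle -/
  jEz : α → ℕ → ℕ
  /-- `A`-facts: `0` or target row plus one -/
  al : ℕ → ℕ
  /-- ranks of `A`-facts -/
  rkA : ℕ → ℕ
  /-- letter of an `A`-fact justification -/
  jAx : ℕ → α
  /-- first pair justification of an `A`-fact -/
  jA1k : ℕ → ℕ
  jA1a : ℕ → ℕ
  jA1p : ℕ → ℕ
  jA1z : ℕ → ℕ
  /-- second pair justification of an `A`-fact -/
  jA2k : ℕ → ℕ
  jA2a : ℕ → ℕ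
  jA2p : ℕ → ℕ
  jA2z : ℕ → ℕ
  /-- the cycle words -/
  cycW : ℕ → List α
  /-- the reversed cycle words -/
  cycR : ℕ → List α
  /-- lengths of the cycle words -/
  cycL : ℕ → ℕ
  /-- is the cycle anchored at row 0 (a subgroup generator) rather than a relator? -/
  cycA : ℕ → Bool
  /-- fuel for following alias chains -/
  fuel : ℕ

variable {α : Type}

/-- Follow alias facts of rank `< r` (at most `fuel` hops). -/
def normF (C : Cert α) (r : ℕ) (fuel y : ℕ) : ℕ :=
  Nat.rec (motive := fun _ => ℕ → ℕ) (fun y => y)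
    (fun _ ih y => Nat.rec (motive := fun _ => ℕ) y
      (fun j _ => Bool.rec y (ih j) (nlt (C.rkA y) r)) (C.al y)) fuel y

theorem normF_zero (C : Cert α) (r y : ℕ) : normF C r 0 y = y := rfl

theorem normF_succ (C : Cert α) (r f y : ℕ) :
    normF C r (f + 1) y = Nat.rec (motive := fun _ => ℕ) y
      (fun j _ => Bool.rec y (normF C r f j) (nlt (C.rkA y) r)) (C.al y) := rfl

/-- normalise with the certificate's fuel -/
def norm (C : Cert α) (r y : ℕ) : ℕ := normF C r C.fuel y

/-- One scanning step on an optional row (`0` = failure, `y + 1` = row `y`). -/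
def stepS (C : Cert α) (r : ℕ) (x : α) (s : ℕ) : ℕ :=
  Nat.rec (motive := fun _ => ℕ) 0
    (fun y _ => Bool.rec 0 (C.ent x (norm C r y)) (nlt (C.rkE x (norm C r y)) r)) s

theorem stepS_zero (C : Cert α) (r : ℕ) (x : α) : stepS C r x 0 = 0 := rfl

theorem stepS_succ (C : Cert α) (r : ℕ) (x : α) (y : ℕ) :
    stepS C r x (y + 1) = Bool.rec 0 (C.ent x (norm C r y)) (nlt (C.rkE x (norm C r y)) r) := rfl

/-- Scan the first `k` letters of `l` (in list order) from the optional row `s`. -/
def scanN (C : Cert α) (r : ℕ) (l : List α) (k s : ℕ) : ℕ :=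
  List.rec (motive := fun _ => ℕ → ℕ → ℕ) (fun _ s => s)
    (fun x _ ih k s => Nat.rec (motive := fun _ => ℕ) s (fun k' _ => ih k' (stepS C r x s)) k) l k s

theorem scanN_nil (C : Cert α) (r k s : ℕ) : scanN C r [] k s = s := rfl

theorem scanN_cons_zero (C : Cert α) (r : ℕ) (x : α) (l : List α) (s : ℕ) :
    scanN C r (x :: l) 0 s = s := rfl

theorem scanN_cons_succ (C : Cert α) (r : ℕ) (x : α) (l : List α) (k s : ℕ) :
    scanN C r (x :: l) (k + 1) s = scanN C r l k (stepS C r x s) := rfl

/-- Scan a whole list. -/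
def scanL (C : Cert α) (r : ℕ) (l : List α) (s : ℕ) : ℕ :=
  l.foldl (fun s x => stepS C r x s) s

theorem scanN_eq_scanL (C : Cert α) (r : ℕ) (l : List α) : ∀ (k s : ℕ),
    scanN C r l k s = scanL C r (l.take k) s := by
  induction l with
  | nil => intro k s; simp [scanN_nil, scanL]
  | cons x l ih =>
    intro k s
    cases k with
    | zero => simp [scanN_cons_zero, scanL]
    | succ k => rw [scanN_cons_succ, ih]; simp [scanL]

/-- The source row (plus one, `0` on failure) of the pair produced by a pair justification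
`(kind, a, p, z)` for letter `x` at rank `r`. -/
def pairB [DecidableEq α] (C : Cert α) (r : ℕ) (x : α) (k a p z : ℕ) : ℕ :=
  Nat.rec (motive := fun _ => ℕ) 0 (fun k1 _ =>
    Nat.rec (motive := fun _ => ℕ)
      -- kind 1: entry `a`: source is `a`
      (Bool.rec 0 (Nat.rec (motive := fun _ => ℕ) 0 (fun _ _ => Nat.succ a) (C.ent x a))
        (nlt (C.rkE x a) r))
      (fun k2 _ => Nat.rec (motive := fun _ => ℕ)
        -- kind 2: inverse entry `a`: source is the entry
        (Bool.rec 0 (C.ent x a) (nlt (C.rkE x a) r))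
        (fun k3 _ => Nat.rec (motive := fun _ => ℕ)
          -- kind 3: cycle `a`, position `p`, start `z`
          (Bool.rec 0 (scanN C r (C.cycR a) (Nat.sub (C.cycL a) p) (Nat.succ z))
            (band (isLetterAt (C.cycW a) (Nat.pred p) x)
              (band (nlt 0 p) (band (Nat.ble p (C.cycL a))
                (Bool.rec true (Nat.beq z 0) (C.cycA a))))))
          (fun _ _ => 0) k3) k2) k1) k

/-- The target row (plus one, `0` on failure) of the pair. -/
def pairA (C : Cert α) (r : ℕ) (x : α) (k a p z : ℕ) : ℕ :=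
  Nat.rec (motive := fun _ => ℕ) 0 (fun k1 _ =>
    Nat.rec (motive := fun _ => ℕ)
      -- kind 1: entry `a`: target is the entry
      (Bool.rec 0 (C.ent x a) (nlt (C.rkE x a) r))
      (fun k2 _ => Nat.rec (motive := fun _ => ℕ)
        -- kind 2: inverse entry `a`: target is `a`
        (Bool.rec 0 (Nat.rec (motive := fun _ => ℕ) 0 (fun _ _ => Nat.succ a) (C.ent x a))
          (nlt (C.rkE x a) r))
        (fun k3 _ => Nat.rec (motive := fun _ => ℕ)
          -- kind 3: cycle
          (scanN C r (C.cycW a) (Nat.pred p) (Nat.succ z))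
          (fun _ _ => 0) k3) k2) k1) k

/-- Two optional rows are both present and have equal normal forms. -/
def sameN (C : Cert α) (r s₁ s₂ : ℕ) : Bool :=
  Nat.rec (motive := fun _ => Bool) false (fun y₁ _ =>
    Nat.rec (motive := fun _ => Bool) false (fun y₂ _ =>
      Nat.beq (norm C r y₁) (norm C r y₂)) s₂) s₁

/-- Check of the `E`-fact at `(x, u)`. -/
def checkE [DecidableEq α] (C : Cert α) (x : α) (u : ℕ) : Bool :=
  Nat.rec (motive := fun _ => Bool) true (fun w _ =>
    Nat.rec (motive := fun _ => Bool)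
      -- tree edge
      (band (nlt 0 w) (band (Nat.beq (C.par w) u) (band (nlt u w) (decide (C.gn w = x)))))
      (fun _ _ =>
        band (sameN C (C.rkE x u) (pairB C (C.rkE x u) x (C.jEk x u) (C.jEa x u) (C.jEp x u) (C.jEz x u))
                (Nat.succ u))
             (sameN C (C.rkE x u) (pairA C (C.rkE x u) x (C.jEk x u) (C.jEa x u) (C.jEp x u) (C.jEz x u))
                (Nat.succ w)))
      (C.jEk x u)) (C.ent x u)

/-- The comparison part of the check of an `A`-fact `k ↦ j` from two pairs `(b₁, a₁)`, `(b₂, a₂)`: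
either the two sources agree (then the targets are `k` and `j`), or the two targets agree
(then the sources are `k` and `j`). -/
def checkA2 (C : Cert α) (r k j b₁ a₁ b₂ a₂ : ℕ) : Bool :=
  Bool.rec
    (band (sameN C r a₁ a₂) (band (sameN C r b₁ (Nat.succ k)) (sameN C r b₂ (Nat.succ j))))
    (band (sameN C r a₁ (Nat.succ k)) (sameN C r a₂ (Nat.succ j)))
    (sameN C r b₁ b₂)

/-- Check of the `A`-fact at `k`. -/
def checkA [DecidableEq α] (C : Cert α) (k : ℕ) : Bool :=
  Nat.rec (motive := fun _ => Bool) true (fun j _ =>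
    checkA2 C (C.rkA k) k j
      (pairB C (C.rkA k) (C.jAx k) (C.jA1k k) (C.jA1a k) (C.jA1p k) (C.jA1z k))
      (pairA C (C.rkA k) (C.jAx k) (C.jA1k k) (C.jA1a k) (C.jA1p k) (C.jA1z k))
      (pairB C (C.rkA k) (C.jAx k) (C.jA2k k) (C.jA2a k) (C.jA2p k) (C.jA2z k))
      (pairA C (C.rkA k) (C.jAx k) (C.jA2k k) (C.jA2a k) (C.jA2p k) (C.jA2z k)))
    (C.al k)


/-! ### Semantics -/

section Semantics

variable {G : Type*} {X : Type*} [Group G] [MulAction G X]

/-- value of a word: the product of the values of its letters -/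
def wval (val : α → G) (w : List α) : G := (w.map val).prod

theorem wval_nil (val : α → G) : wval val [] = 1 := rfl

theorem wval_cons (val : α → G) (x : α) (w : List α) : wval val (x :: w) = val x * wval val w := by
  simp [wval]

theorem wval_append (val : α → G) (w₁ w₂ : List α) :
    wval val (w₁ ++ w₂) = wval val w₁ * wval val w₂ := by
  simp [wval]

theorem wval_reverse (val : α → G) (hinv : ∀ x, val x * val x = 1) (w : List α) :
    wval val w.reverse = (wval val w)⁻¹ := by
  induction w with
  | nil => simp [wval]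
  | cons x w ih =>
    rw [List.reverse_cons, wval_append, ih, wval_cons, wval_cons, wval_nil, mul_one, mul_inv_rev]
    congr 1
    exact eq_inv_of_mul_eq_one_left (hinv x)

/-- The point of the `G`-set denoted by a row. -/
noncomputable def cpt (C : Cert α) (val : α → G) (base : X) (k : ℕ) : X :=
  if h : 0 < k ∧ C.par k < k then val (C.gn k) • cpt C val base (C.par k) else base
termination_by k
decreasing_by exact h.2

theorem cpt_of_tree (C : Cert α) (val : α → G) (base : X) (k : ℕ) (h : 0 < k ∧ C.par k < k) :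
    cpt C val base k = val (C.gn k) • cpt C val base (C.par k) := by
  rw [cpt, dif_pos h]

theorem cpt_zero (C : Cert α) (val : α → G) (base : X) : cpt C val base 0 = base := by
  rw [cpt, dif_neg (by simp)]

/-- All facts of rank `< r` hold. -/
def Holds (C : Cert α) (val : α → G) (base : X) (r : ℕ) : Prop :=
  (∀ x u, C.ent x u ≠ 0 → C.rkE x u < r →
    val x • cpt C val base u = cpt C val base (C.ent x u - 1)) ∧
  (∀ k, C.al k ≠ 0 → C.rkA k < r → cpt C val base k = cpt C val base (C.al k - 1))

variable (C : Cert α) (val : α → G) (base : X)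

theorem normF_sound (r : ℕ) (h : Holds C val base r) : ∀ (f y : ℕ),
    cpt C val base (normF C r f y) = cpt C val base y := by
  intro f
  induction f with
  | zero => intro y; rfl
  | succ f ih =>
    intro y
    rw [normF_succ]
    cases hal : C.al y with
    | zero => rfl
    | succ j =>
      cases hlt : nlt (C.rkA y) r with
      | false => rfl
      | true =>
        show cpt C val base (normF C r f j) = _
        rw [ih j]
        have := h.2 y (by rw [hal]; exact Nat.succ_ne_zero j) (nlt_eq_true.1 hlt)
        rw [this, hal]; rfl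

theorem norm_sound (r : ℕ) (h : Holds C val base r) (y : ℕ) :
    cpt C val base (norm C r y) = cpt C val base y := normF_sound C val base r h _ y

theorem stepS_sound (r : ℕ) (h : Holds C val base r) (x : α) (y w : ℕ)
    (hs : stepS C r x (y + 1) = w + 1) : val x • cpt C val base y = cpt C val base w := by
  rw [stepS_succ] at hs
  cases hlt : nlt (C.rkE x (norm C r y)) r with
  | false => rw [hlt] at hs; cases hs
  | true =>
    rw [hlt] at hs
    have hs' : C.ent x (norm C r y) = w + 1 := hs
    have := h.1 x (norm C r y) (by rw [hs']; exact Nat.succ_ne_zero w) (nlt_eq_true.1 hlt)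
    rw [norm_sound C val base r h, hs'] at this
    exact this

theorem scanL_zero (r : ℕ) (l : List α) : scanL C r l 0 = 0 := by
  induction l with
  | nil => rfl
  | cons x l ih => simpa [scanL, stepS_zero] using ih

theorem scanL_sound (r : ℕ) (h : Holds C val base r) (l : List α) : ∀ (z y : ℕ),
    scanL C r l (z + 1) = y + 1 →
    cpt C val base y = wval val l.reverse • cpt C val base z := by
  induction l with
  | nil =>
    intro z y hs
    have : z = y := by simpa [scanL] using hs
    simp [wval, this]
  | cons x l ih =>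
    intro z y hs
    have hs' : scanL C r l (stepS C r x (z + 1)) = y + 1 := by simpa [scanL] using hs
    cases hst : stepS C r x (z + 1) with
    | zero => rw [hst, scanL_zero] at hs'; cases hs'
    | succ w =>
      rw [hst] at hs'
      rw [ih w y hs', List.reverse_cons, wval_append, mul_smul, wval_cons, wval_nil, mul_one,
        stepS_sound C val base r h x z w hst]

/-- Structural hypotheses on the cycle words of a certificate. -/
def CycOK (C : Cert α) : Prop :=
  ∀ ci, C.cycR ci = (C.cycW ci).reverse ∧ C.cycL ci = (C.cycW ci).length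

/-- Semantic hypothesis on the cycle words: relators fix every point, anchored cycles fix the
base point. -/
def CycVal (C : Cert α) (val : α → G) (base : X) : Prop :=
  ∀ ci z, (C.cycA ci = true → z = 0) →
    wval val (C.cycW ci) • cpt C val base z = cpt C val base z

theorem sameN_sound (r : ℕ) (h : Holds C val base r) (s₁ s₂ : ℕ) (hs : sameN C r s₁ s₂ = true) :
    ∃ y₁ y₂, s₁ = y₁ + 1 ∧ s₂ = y₂ + 1 ∧ cpt C val base y₁ = cpt C val base y₂ := by
  cases s₁ with
  | zero => cases hs
  | succ y₁ =>
    cases s₂ with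
    | zero => cases hs
    | succ y₂ =>
      refine ⟨y₁, y₂, rfl, rfl, ?_⟩
      have h' : Nat.beq (norm C r y₁) (norm C r y₂) = true := hs
      have := nbeq_eq_true.1 h'
      rw [← norm_sound C val base r h y₁, this, norm_sound C val base r h y₂]

variable [DecidableEq α]

theorem pair_sound (hinv : ∀ x, val x * val x = 1) (hc : CycOK C) (hv : CycVal C val base)
    (r : ℕ) (h : Holds C val base r) (x : α) (k a p z b' a' : ℕ)
    (hb : pairB C r x k a p z = b' + 1) (ha : pairA C r x k a p z = a' + 1) :
    val x • cpt C val base b' = cpt C val base a' := by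
  match k with
  | 0 => cases hb
  | 1 =>
    -- entry
    have hb1 : Bool.rec 0 (Nat.rec (motive := fun _ => ℕ) 0 (fun _ _ => Nat.succ a) (C.ent x a))
        (nlt (C.rkE x a) r) = b' + 1 := hb
    have ha1 : Bool.rec 0 (C.ent x a) (nlt (C.rkE x a) r) = a' + 1 := ha
    cases hlt : nlt (C.rkE x a) r with
    | false => rw [hlt] at ha1; cases ha1
    | true =>
      rw [hlt] at ha1 hb1
      have ha2 : C.ent x a = a' + 1 := ha1
      rw [ha2] at hb1
      have hb2 : a = b' := Nat.succ_injective hb1
      have := h.1 x a (by rw [ha2]; exact Nat.succ_ne_zero _) (nlt_eq_true.1 hlt)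
      rw [ha2] at this
      rw [← hb2]; exact this
  | 2 =>
    have ha1 : Bool.rec 0 (Nat.rec (motive := fun _ => ℕ) 0 (fun _ _ => Nat.succ a) (C.ent x a))
        (nlt (C.rkE x a) r) = a' + 1 := ha
    have hb1 : Bool.rec 0 (C.ent x a) (nlt (C.rkE x a) r) = b' + 1 := hb
    cases hlt : nlt (C.rkE x a) r with
    | false => rw [hlt] at hb1; cases hb1
    | true =>
      rw [hlt] at ha1 hb1
      have hb2 : C.ent x a = b' + 1 := hb1
      rw [hb2] at ha1
      have ha2 : a = a' := Nat.succ_injective ha1
      have := h.1 x a (by rw [hb2]; exact Nat.succ_ne_zero _) (nlt_eq_true.1 hlt)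
      rw [hb2] at this
      have this' : cpt C val base b' = val x • cpt C val base a := this.symm
      rw [← ha2, this', ← mul_smul, hinv, one_smul]
  | 3 =>
    have ha1 : scanN C r (C.cycW a) (Nat.pred p) (Nat.succ z) = a' + 1 := ha
    have hb1 : Bool.rec 0 (scanN C r (C.cycR a) (Nat.sub (C.cycL a) p) (Nat.succ z))
            (band (isLetterAt (C.cycW a) (Nat.pred p) x)
              (band (nlt 0 p) (band (Nat.ble p (C.cycL a))
                (Bool.rec true (Nat.beq z 0) (C.cycA a))))) = b' + 1 := hb
    cases hcond : (band (isLetterAt (C.cycW a) (Nat.pred p) x)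
              (band (nlt 0 p) (band (Nat.ble p (C.cycL a))
                (Bool.rec true (Nat.beq z 0) (C.cycA a))))) with
    | false => rw [hcond] at hb1; cases hb1
    | true =>
      rw [hcond] at hb1
      have hb2 : scanN C r (C.cycR a) (Nat.sub (C.cycL a) p) (Nat.succ z) = b' + 1 := hb1
      rw [band_eq_true, band_eq_true, band_eq_true] at hcond
      obtain ⟨hlet, hp0, hpL, hanch⟩ := hcond
      have hp0' : 0 < p := nlt_eq_true.1 hp0
      have hpL' : p ≤ C.cycL a := Nat.le_of_ble_eq_true hpL
      obtain ⟨hR, hL⟩ := hc a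
      have hsplit := isLetterAt_spec (C.cycW a) (Nat.pred p) x hlet
      have hpp : Nat.pred p + 1 = p := Nat.succ_pred_eq_of_pos hp0'
      rw [hpp] at hsplit
      -- the anchoring condition
      have hz : C.cycA a = true → z = 0 := by
        intro hA
        rw [hA] at hanch
        exact nbeq_eq_true.1 hanch
      have hfix := hv a z hz
      -- the two scans
      rw [scanN_eq_scanL] at ha1 hb2
      have hA := scanL_sound C val base r h _ z a' ha1
      have hB := scanL_sound C val base r h _ z b' hb2
      rw [wval_reverse val hinv] at hA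
      have htake : ((C.cycR a).take (Nat.sub (C.cycL a) p)).reverse = (C.cycW a).drop p := by
        rw [hR, hL, List.take_reverse, List.reverse_reverse]
        congr 1
        have : p ≤ (C.cycW a).length := hL ▸ hpL'
        show (C.cycW a).length - ((C.cycW a).length - p) = p
        omega
      rw [htake] at hB
      -- combine
      rw [hsplit, wval_append, wval_cons, mul_smul, mul_smul] at hfix
      rw [hA, hB, eq_inv_smul_iff]
      exact hfix
  | (k + 4) => cases hb

theorem checkE_sound (hinv : ∀ x, val x * val x = 1) (hc : CycOK C) (hv : CycVal C val base)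
    (x : α) (u : ℕ) (h : Holds C val base (C.rkE x u)) (hchk : checkE C x u = true)
    (hne : C.ent x u ≠ 0) :
    val x • cpt C val base u = cpt C val base (C.ent x u - 1) := by
  obtain ⟨w, hw⟩ := Nat.exists_eq_succ_of_ne_zero hne
  unfold checkE at hchk
  rw [hw] at hchk ⊢
  show _ = cpt C val base w
  cases hk : C.jEk x u with
  | zero =>
    rw [hk] at hchk
    have hchk' : band (nlt 0 w) (band (Nat.beq (C.par w) u) (band (nlt u w) (decide (C.gn w = x))))
        = true := hchk
    rw [band_eq_true, band_eq_true, band_eq_true] at hchk'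
    obtain ⟨h0, hpar, hlt, hgn⟩ := hchk'
    have hpar' := nbeq_eq_true.1 hpar
    have hgn' : C.gn w = x := of_decide_eq_true hgn
    rw [cpt_of_tree C val base w ⟨nlt_eq_true.1 h0, by rw [hpar']; exact nlt_eq_true.1 hlt⟩,
      hpar', hgn']
  | succ k' =>
    rw [hk] at hchk
    have hchk' : band (sameN C (C.rkE x u) (pairB C (C.rkE x u) x (k' + 1) (C.jEa x u) (C.jEp x u) (C.jEz x u))
                (Nat.succ u))
             (sameN C (C.rkE x u) (pairA C (C.rkE x u) x (k' + 1) (C.jEa x u) (C.jEp x u) (C.jEz x u))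
                (Nat.succ w)) = true := hchk
    rw [band_eq_true] at hchk'
    obtain ⟨b', u', hb, hu, hbu⟩ := sameN_sound C val base _ h _ _ hchk'.1
    obtain ⟨a', w', ha, hw', haw⟩ := sameN_sound C val base _ h _ _ hchk'.2
    have hu' : u = u' := Nat.succ_injective hu
    have hw'' : w = w' := Nat.succ_injective hw'
    have := pair_sound C val base hinv hc hv _ h x _ _ _ _ b' a' hb ha
    rw [hu', hw'', ← hbu, ← haw]; exact this

theorem checkA_sound (hinv : ∀ x, val x * val x = 1) (hc : CycOK C) (hv : CycVal C val base)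
    (k : ℕ) (h : Holds C val base (C.rkA k)) (hchk : checkA C k = true)
    (hne : C.al k ≠ 0) :
    cpt C val base k = cpt C val base (C.al k - 1) := by
  obtain ⟨j, hj⟩ := Nat.exists_eq_succ_of_ne_zero hne
  unfold checkA at hchk
  rw [hj] at hchk ⊢
  show _ = cpt C val base j
  have hchk' : checkA2 C (C.rkA k) k j
      (pairB C (C.rkA k) (C.jAx k) (C.jA1k k) (C.jA1a k) (C.jA1p k) (C.jA1z k))
      (pairA C (C.rkA k) (C.jAx k) (C.jA1k k) (C.jA1a k) (C.jA1p k) (C.jA1z k))
      (pairB C (C.rkA k) (C.jAx k) (C.jA2k k) (C.jA2a k) (C.jA2p k) (C.jA2z k))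
      (pairA C (C.rkA k) (C.jAx k) (C.jA2k k) (C.jA2a k) (C.jA2p k) (C.jA2z k)) = true := hchk
  unfold checkA2 at hchk'
  cases hsrc : sameN C (C.rkA k)
      (pairB C (C.rkA k) (C.jAx k) (C.jA1k k) (C.jA1a k) (C.jA1p k) (C.jA1z k))
      (pairB C (C.rkA k) (C.jAx k) (C.jA2k k) (C.jA2a k) (C.jA2p k) (C.jA2z k)) with
  | true =>
    rw [hsrc] at hchk'
    have hchk2 : band (sameN C (C.rkA k) (pairA C (C.rkA k) (C.jAx k) (C.jA1k k) (C.jA1a k) (C.jA1p k) (C.jA1z k)) (Nat.succ k))
        (sameN C (C.rkA k) (pairA C (C.rkA k) (C.jAx k) (C.jA2k k) (C.jA2a k) (C.jA2p k) (C.jA2z k)) (Nat.succ j)) = true := hchk'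
    rw [band_eq_true] at hchk2
    obtain ⟨b₁, b₂, hb₁, hb₂, hbb⟩ := sameN_sound C val base _ h _ _ hsrc
    obtain ⟨a₁, k', ha₁, hk', hak⟩ := sameN_sound C val base _ h _ _ hchk2.1
    obtain ⟨a₂, j', ha₂, hj', haj⟩ := sameN_sound C val base _ h _ _ hchk2.2
    have e1 := pair_sound C val base hinv hc hv _ h _ _ _ _ _ b₁ a₁ hb₁ ha₁
    have e2 := pair_sound C val base hinv hc hv _ h _ _ _ _ _ b₂ a₂ hb₂ ha₂
    have hk'' : k = k' := Nat.succ_injective hk'
    have hj'' : j = j' := Nat.succ_injective hj'
    rw [hk'', hj'', ← hak, ← haj, ← e1, ← e2, hbb]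
  | false =>
    rw [hsrc] at hchk'
    have hchk2 : band (sameN C (C.rkA k) (pairA C (C.rkA k) (C.jAx k) (C.jA1k k) (C.jA1a k) (C.jA1p k) (C.jA1z k))
          (pairA C (C.rkA k) (C.jAx k) (C.jA2k k) (C.jA2a k) (C.jA2p k) (C.jA2z k)))
        (band (sameN C (C.rkA k) (pairB C (C.rkA k) (C.jAx k) (C.jA1k k) (C.jA1a k) (C.jA1p k) (C.jA1z k)) (Nat.succ k))
          (sameN C (C.rkA k) (pairB C (C.rkA k) (C.jAx k) (C.jA2k k) (C.jA2a k) (C.jA2p k) (C.jA2z k)) (Nat.succ j))) = true := hchk'
    rw [band_eq_true, band_eq_true] at hchk2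
    obtain ⟨a₁, a₂, ha₁, ha₂, haa⟩ := sameN_sound C val base _ h _ _ hchk2.1
    obtain ⟨b₁, k', hb₁, hk', hbk⟩ := sameN_sound C val base _ h _ _ hchk2.2.1
    obtain ⟨b₂, j', hb₂, hj', hbj⟩ := sameN_sound C val base _ h _ _ hchk2.2.2
    have e1 := pair_sound C val base hinv hc hv _ h _ _ _ _ _ b₁ a₁ hb₁ ha₁
    have e2 := pair_sound C val base hinv hc hv _ h _ _ _ _ _ b₂ a₂ hb₂ ha₂
    have hk'' : k = k' := Nat.succ_injective hk'
    have hj'' : j = j' := Nat.succ_injective hj'
    rw [hk'', hj'', ← hbk, ← hbj]
    have : val (C.jAx k) • cpt C val base b₁ = val (C.jAx k) • cpt C val base b₂ := by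
      rw [e1, e2, haa]
    exact (MulAction.injective (val (C.jAx k))) this

/-- If every fact passes its check, every fact holds. -/
theorem holds_all (hinv : ∀ x, val x * val x = 1) (hc : CycOK C) (hv : CycVal C val base)
    (hE : ∀ x u, checkE C x u = true) (hA : ∀ k, checkA C k = true) :
    ∀ r, Holds C val base r := by
  intro r
  induction r with
  | zero => exact ⟨fun _ _ _ h => absurd h (Nat.not_lt_zero _), fun _ _ h => absurd h (Nat.not_lt_zero _)⟩
  | succ r ih =>
    refine ⟨fun x u hne hlt => ?_, fun k hne hlt => ?_⟩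
    · rcases Nat.lt_succ_iff_lt_or_eq.1 hlt with hlt' | heq
      · exact ih.1 x u hne hlt'
      · exact checkE_sound C val base hinv hc hv x u (heq ▸ ih) (hE x u) hne
    · rcases Nat.lt_succ_iff_lt_or_eq.1 hlt with hlt' | heq
      · exact ih.2 k hne hlt'
      · exact checkA_sound C val base hinv hc hv k (heq ▸ ih) (hA k) hne

end Semantics

end Cfsg.Agent.Lib.Helper28.TC
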