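/-
Verified coset-enumeration certificates, part 3: from a checked certificate to an equivariant
bijection between the cosets `G ⧸ H` of a presented group and `Fin n`.
-/
import Cfsg.Agent.Lib.Helper28.TCCore

set_option autoImplicit false

namespace Cfsg.Agent.Lib.Helper28.TC

variable {α : Type}

/-- The permutation data of a final coset table: involutions of `[0, n)`. -/
structure PermTable (α : Type) (n : ℕ) where
  /-- the table -/
  tf : α → ℕ → ℕ
  /-- rows stay in range -/
  bound : ∀ x i, i < n → tf x i < n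
  /-- every generator acts as an involution -/
  invol : ∀ x i, i < n → tf x (tf x i) = i

namespace PermTable

variable {n : ℕ} (T : PermTable α n)

/-- the permutation of `Fin n` attached to a generator -/
def perm (x : α) : Equiv.Perm (Fin n) where
  toFun i := ⟨T.tf x i, T.bound x i i.2⟩
  invFun i := ⟨T.tf x i, T.bound x i i.2⟩
  left_inv i := Fin.ext (T.invol x i i.2)
  right_inv i := Fin.ext (T.invol x i i.2)

theorem perm_apply_val (x : α) (i : Fin n) : (T.perm x i).val = T.tf x i := rfl

theorem perm_mul_self (x : α) : T.perm x * T.perm x = 1 := by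
  ext i
  simp only [Equiv.Perm.mul_apply, Equiv.Perm.one_apply, perm_apply_val]
  exact T.invol x i i.2

theorem perm_inv (x : α) : (T.perm x)⁻¹ = T.perm x :=
  inv_eq_of_mul_eq_one_left (T.perm_mul_self x)

theorem wordPerm_apply_val (w : List α) (i : Fin n) :
    ((w.map T.perm).prod i).val = act T.tf w i := by
  induction w with
  | nil => rfl
  | cons x w ih =>
    rw [List.map_cons, List.prod_cons, Equiv.Perm.mul_apply, perm_apply_val, ih, act_cons]

theorem wordPerm_eq_one (w : List α) (h : ∀ i, i < n → act T.tf w i = i) :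
    (w.map T.perm).prod = 1 := by
  ext i
  rw [wordPerm_apply_val, Equiv.Perm.one_apply]
  exact h i i.2

end PermTable

section Main

variable [DecidableEq α] {rels : Set (FreeGroup α)} {S : Set (FreeGroup α)}

/-- the image of a generator in the presented group -/
noncomputable def pval (rels : Set (FreeGroup α)) (x : α) : PresentedGroup rels :=
  PresentedGroup.of x

/-- the subgroup of the presented group generated by the images of the words in `S` -/
noncomputable def subH (rels : Set (FreeGroup α)) (S : Set (FreeGroup α)) :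
    Subgroup (PresentedGroup rels) :=
  (Subgroup.closure S).map (PresentedGroup.mk rels)

theorem wval_pval (rels : Set (FreeGroup α)) (w : List α) :
    wval (pval rels) w = PresentedGroup.mk rels ((w.map FreeGroup.of).prod) := by
  induction w with
  | nil => simp [wval]
  | cons x w ih =>
    rw [wval_cons, ih, List.map_cons, List.prod_cons, map_mul]
    rfl

/-- The main theorem: a checked certificate gives an equivariant bijection `G ⧸ H ≃ Fin n`. -/
theorem cosetEquiv_of_cert
    {n : ℕ} (hn : 0 < n) (T : PermTable α n)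
    (hrel : ∀ r ∈ rels, FreeGroup.lift T.perm r = 1)
    (hsub : ∀ s ∈ S, FreeGroup.lift T.perm s ⟨0, hn⟩ = ⟨0, hn⟩)
    (hinv : ∀ x, pval rels x * pval rels x = 1)
    (C : Cert α) (hc : CycOK C)
    (hcycR : ∀ ci, C.cycA ci = false → wval (pval rels) (C.cycW ci) = 1)
    (hcycS : ∀ ci, C.cycA ci = true → wval (pval rels) (C.cycW ci) ∈ subH rels S)
    (hE : ∀ x u, checkE C x u = true) (hA : ∀ k, checkA C k = true)
    (N : ℕ) (fin : ℕ → ℕ) (hfin0 : fin 0 = 0)
    (htree : ∀ k, 0 < k → k < N → C.par k < k ∧ T.tf (C.gn k) (fin (C.par k)) = fin k)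
    (R : ℕ) (rowOf : ℕ → ℕ) (hrow0 : rowOf 0 = 0)
    (hclosed : ∀ i, i < n → ∀ x, rowOf i < N ∧ fin (rowOf i) = i ∧ C.ent x (rowOf i) ≠ 0 ∧
      norm C R (C.ent x (rowOf i) - 1) = rowOf (T.tf x i)) :
    ∃ e : (PresentedGroup rels ⧸ subH rels S) ≃ Fin n,
      e ((1 : PresentedGroup rels) : PresentedGroup rels ⧸ subH rels S) = ⟨0, hn⟩ ∧
      ∀ (g : PresentedGroup rels) (q : PresentedGroup rels ⧸ subH rels S),
        e (g • q) = (PresentedGroup.toGroup hrel g) (e q) := by
  classical
  -- notation
  set G := PresentedGroup rels with hG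
  set H := subH rels S with hH
  set φ : G →* Equiv.Perm (Fin n) := PresentedGroup.toGroup hrel with hφ
  have hφof : ∀ x, φ (pval rels x) = T.perm x := fun x => PresentedGroup.toGroup.of hrel
  have hφmk : ∀ w : FreeGroup α, φ (PresentedGroup.mk rels w) = FreeGroup.lift T.perm w :=
    fun w => rfl
  let z0 : Fin n := ⟨0, hn⟩
  -- H fixes the base row
  have hHfix : ∀ h ∈ H, φ h z0 = z0 := by
    have : H ≤ (MulAction.stabilizer (Equiv.Perm (Fin n)) z0).comap φ := by
      rw [hH, subH, Subgroup.map_le_iff_le_comap, Subgroup.closure_le]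
      intro s hs
      show φ (PresentedGroup.mk rels s) • z0 = z0
      rw [hφmk]
      exact hsub s hs
    intro h hh
    exact this hh
  -- the orbit map
  let ψ : G ⧸ H → Fin n := Quotient.lift (fun g : G => φ g z0) (by
    intro a b hab
    have hab' : a⁻¹ * b ∈ H := QuotientGroup.leftRel_apply.1 hab
    have := hHfix _ hab'
    show φ a z0 = φ b z0
    rw [map_mul, map_inv, Equiv.Perm.mul_apply, Equiv.Perm.inv_eq_iff_eq] at this
    exact this.symm)
  have hψmk : ∀ g : G, ψ (g : G ⧸ H) = φ g z0 := fun g => rfl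
  have hψsmul : ∀ (g : G) (q : G ⧸ H), ψ (g • q) = φ g (ψ q) := by
    intro g q
    induction q using QuotientGroup.induction_on with
    | H g' =>
      show ψ ((g * g' : G) : G ⧸ H) = φ g (ψ (g' : G ⧸ H))
      rw [hψmk, hψmk, map_mul, Equiv.Perm.mul_apply]
  -- the points denoted by rows
  let base : G ⧸ H := ((1 : G) : G ⧸ H)
  let c : ℕ → G ⧸ H := cpt C (pval rels) base
  have hv : CycVal C (pval rels) base := by
    intro ci z hz
    cases hA' : C.cycA ci with
    | false => rw [hcycR ci hA', one_smul]
    | true =>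
      have hz0 := hz hA'
      subst hz0
      rw [cpt_zero]
      have hmem := hcycS ci hA'
      show ((wval (pval rels) (C.cycW ci) * 1 : G) : G ⧸ H) = ((1 : G) : G ⧸ H)
      rw [mul_one, QuotientGroup.eq, mul_one]
      exact H.inv_mem hmem
  have hholds := holds_all C (pval rels) base hinv hc hv hE hA
  -- ψ (c k) = fin k
  have hfinlt : ∀ k, k < N → fin k < n ∧ (ψ (c k)).val = fin k := by
    intro k
    induction k using Nat.strong_induction_on with
    | _ k ih =>
      intro hk
      rcases Nat.eq_zero_or_pos k with rfl | hpos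
      · refine ⟨by rw [hfin0]; exact hn, ?_⟩
        show (ψ (cpt C (pval rels) base 0)).val = fin 0
        rw [cpt_zero, hfin0]
        show (φ 1 z0).val = 0
        rw [map_one]; rfl
      · obtain ⟨hpar, htf⟩ := htree k hpos hk
        obtain ⟨hlt, hval⟩ := ih (C.par k) hpar (lt_trans hpar hk)
        have hck : c k = pval rels (C.gn k) • c (C.par k) := cpt_of_tree C _ base k ⟨hpos, hpar⟩
        refine ⟨by rw [← htf]; exact T.bound _ _ hlt, ?_⟩
        rw [hck, hψsmul, hφof, PermTable.perm_apply_val, hval, htf]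
  -- closure of the designated rows under the generators
  have hstep : ∀ i, i < n → ∀ x, pval rels x • c (rowOf i) = c (rowOf (T.tf x i)) := by
    intro i hi x
    obtain ⟨_, _, hne, hnorm⟩ := hclosed i hi x
    have h1 := (hholds (C.rkE x (rowOf i) + 1)).1 x (rowOf i) hne (Nat.lt_succ_self _)
    have h2 := norm_sound C (pval rels) base R (hholds R) (C.ent x (rowOf i) - 1)
    rw [hnorm] at h2
    show pval rels x • cpt C (pval rels) base (rowOf i) = cpt C (pval rels) base (rowOf (T.tf x i))
    rw [h1, h2]
  have hinv' : ∀ x, (pval rels x)⁻¹ = pval rels x := fun x =>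
    inv_eq_of_mul_eq_one_left (hinv x)
  have hreach : ∀ w : FreeGroup α, ∀ i, i < n →
      ∃ i', i' < n ∧ (PresentedGroup.mk rels w : G) • c (rowOf i) = c (rowOf i') := by
    intro w
    induction w using FreeGroup.induction_on with
    | C1 => intro i hi; exact ⟨i, hi, by rw [map_one, one_smul]⟩
    | of x => intro i hi; exact ⟨T.tf x i, T.bound x i hi, hstep i hi x⟩
    | inv_of x ih =>
      intro i hi
      refine ⟨T.tf x i, T.bound x i hi, ?_⟩
      rw [map_inv]
      show (pval rels x)⁻¹ • _ = _
      rw [hinv' x]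
      exact hstep i hi x
    | mul a b iha ihb =>
      intro i hi
      obtain ⟨i₁, hi₁, h₁⟩ := ihb i hi
      obtain ⟨i₂, hi₂, h₂⟩ := iha i₁ hi₁
      exact ⟨i₂, hi₂, by rw [map_mul, mul_smul, h₁, h₂]⟩
  have hsurj : ∀ q : G ⧸ H, ∃ i, i < n ∧ q = c (rowOf i) := by
    intro q
    induction q using QuotientGroup.induction_on with
    | H g =>
      obtain ⟨w, rfl⟩ := QuotientGroup.mk_surjective g
      obtain ⟨i', hi', h'⟩ := hreach w 0 hn
      refine ⟨i', hi', ?_⟩
      rw [← h', hrow0]
      show _ = _ • cpt C (pval rels) base 0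
      rw [cpt_zero]
      show _ = (((PresentedGroup.mk rels w : G) * 1 : G) : G ⧸ H)
      rw [mul_one]; rfl
  have hψc : ∀ i, i < n → (ψ (c (rowOf i))).val = i := by
    intro i hi
    obtain ⟨hN, hfi, _, _⟩ := hclosed i hi (C.gn 0)
    rw [(hfinlt _ hN).2, hfi]
  have hbij : Function.Bijective ψ := by
    constructor
    · intro q₁ q₂ h
      obtain ⟨i₁, hi₁, rfl⟩ := hsurj q₁
      obtain ⟨i₂, hi₂, rfl⟩ := hsurj q₂
      have : i₁ = i₂ := by rw [← hψc i₁ hi₁, ← hψc i₂ hi₂, h]
      rw [this]
    · intro i
      exact ⟨c (rowOf i), Fin.ext (hψc i i.2)⟩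
  refine ⟨Equiv.ofBijective ψ hbij, ?_, ?_⟩
  · show ψ ((1 : G) : G ⧸ H) = z0
    rw [hψmk, map_one]; rfl
  · intro g q
    exact hψsmul g q

end Main

end Cfsg.Agent.Lib.Helper28.TC
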