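/-
Verified coset-enumeration certificates, part 4: row-wise Boolean checkers with their
specifications, word expressions for relators, and bounds for packed tables.
-/
import Cfsg.Agent.Lib.Helper28.TCMain
import Cfsg.Prelude.Def_SporCoxeter

set_option autoImplicit false

namespace Cfsg.Agent.Lib.Helper28.TC

variable {α : Type}

/-! ### Guards and blocks -/

/-- `p i` is only required for `i < n`. -/
def guard (n : ℕ) (p : ℕ → Bool) (i : ℕ) : Bool := Bool.rec (p i) true (Nat.ble n i)

theorem guard_spec (n : ℕ) (p : ℕ → Bool) (i : ℕ) (h : guard n p i = true) (hi : i < n) :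
    p i = true := by
  unfold guard at h
  cases hb : Nat.ble n i with
  | true => exact absurd (Nat.le_of_ble_eq_true hb) (Nat.not_le.2 hi)
  | false => rw [hb] at h; exact h

/-- all rows below `n` satisfy `p`, from block checks covering `[0, m * 2^d)` with `n ≤ m * 2^d` -/
theorem all_of_blocks (n : ℕ) (p : ℕ → Bool) (d m : ℕ) (hm : n ≤ m * 2 ^ d)
    (h : ∀ k < m, allRange (guard n p) d (k * 2 ^ d) = true) : ∀ i < n, p i = true := by
  intro i hi
  exact guard_spec n p i (allBlocks_spec (guard n p) d m h i (lt_of_lt_of_le hi hm)) hi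

/-! ### Packed tables -/

theorem look_eq_zero (tab b m i N : ℕ) (h : tab < 2 ^ (b * N)) (hi : N ≤ i) :
    look tab b m i = 0 := by
  unfold look
  have h1 : Nat.shiftRight tab (Nat.mul b i) = 0 := by
    show tab >>> (b * i) = 0
    rw [Nat.shiftRight_eq_div_pow]
    apply Nat.div_eq_of_lt
    exact lt_of_lt_of_le h (Nat.pow_le_pow_right (by norm_num) (Nat.mul_le_mul_left b hi))
  rw [h1]
  exact Nat.zero_and m

/-! ### Row checkers for the permutation table -/

/-- generators act as involutions of `[0, n)` at row `i` -/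
def permRowOK (tf : α → ℕ → ℕ) (n : ℕ) (gens : List α) (i : ℕ) : Bool :=
  allList (fun x => band (nlt (tf x i) n) (Nat.beq (tf x (tf x i)) i)) gens

theorem permRowOK_spec (tf : α → ℕ → ℕ) (n : ℕ) (gens : List α) (hg : ∀ x, x ∈ gens) (i : ℕ)
    (h : permRowOK tf n gens i = true) (x : α) : tf x i < n ∧ tf x (tf x i) = i := by
  have := allList_spec _ gens h x (hg x)
  rw [band_eq_true] at this
  exact ⟨nlt_eq_true.1 this.1, nbeq_eq_true.1 this.2⟩

/-- all words of the list fix row `i` -/
def relRowOK (tf : α → ℕ → ℕ) (words : List (List α)) (i : ℕ) : Bool :=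
  allList (fun w => Nat.beq (act tf w i) i) words

theorem relRowOK_spec (tf : α → ℕ → ℕ) (words : List (List α)) (i : ℕ)
    (h : relRowOK tf words i = true) (w : List α) (hw : w ∈ words) : act tf w i = i :=
  nbeq_eq_true.1 (allList_spec _ words h w hw)

/-! ### Row checkers for the tree and the closure -/

/-- tree check at row `k` (nothing to check at row `0`) -/
def treeRowOK (C : Cert α) (tf : α → ℕ → ℕ) (fin : ℕ → ℕ) (k : ℕ) : Bool :=
  Nat.rec (motive := fun _ => Bool) true
    (fun _ _ => band (nlt (C.par k) k) (Nat.beq (tf (C.gn k) (fin (C.par k))) (fin k))) k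

theorem treeRowOK_spec (C : Cert α) (tf : α → ℕ → ℕ) (fin : ℕ → ℕ) (k : ℕ)
    (h : treeRowOK C tf fin k = true) (hk : 0 < k) :
    C.par k < k ∧ tf (C.gn k) (fin (C.par k)) = fin k := by
  obtain ⟨k', rfl⟩ := Nat.exists_eq_succ_of_ne_zero (Nat.pos_iff_ne_zero.1 hk)
  have h' : band (nlt (C.par (k' + 1)) (k' + 1))
      (Nat.beq (tf (C.gn (k' + 1)) (fin (C.par (k' + 1)))) (fin (k' + 1))) = true := h
  rw [band_eq_true] at h'
  exact ⟨nlt_eq_true.1 h'.1, nbeq_eq_true.1 h'.2⟩

/-- closure check at final row `i` -/
def closedRowOK (C : Cert α) (tf : α → ℕ → ℕ) (fin rowOf : ℕ → ℕ) (N R : ℕ) (gens : List α)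
    (i : ℕ) : Bool :=
  band (nlt (rowOf i) N) (band (Nat.beq (fin (rowOf i)) i)
    (allList (fun x => Nat.rec (motive := fun _ => Bool) false
      (fun w _ => Nat.beq (norm C R w) (rowOf (tf x i))) (C.ent x (rowOf i))) gens))

theorem closedRowOK_spec (C : Cert α) (tf : α → ℕ → ℕ) (fin rowOf : ℕ → ℕ) (N R : ℕ)
    (gens : List α) (hg : ∀ x, x ∈ gens) (i : ℕ)
    (h : closedRowOK C tf fin rowOf N R gens i = true) (x : α) :
    rowOf i < N ∧ fin (rowOf i) = i ∧ C.ent x (rowOf i) ≠ 0 ∧
      norm C R (C.ent x (rowOf i) - 1) = rowOf (tf x i) := by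
  unfold closedRowOK at h
  rw [band_eq_true, band_eq_true] at h
  obtain ⟨h1, h2, h3⟩ := h
  have h4 := allList_spec _ gens h3 x (hg x)
  refine ⟨nlt_eq_true.1 h1, nbeq_eq_true.1 h2, ?_⟩
  cases he : C.ent x (rowOf i) with
  | zero => rw [he] at h4; cases h4
  | succ w =>
    rw [he] at h4
    exact ⟨Nat.succ_ne_zero w, nbeq_eq_true.1 h4⟩

/-! ### Lists with default -/

/-- `i`-th member of a list, with a default, by raw recursion -/
def nthD {β : Type} (l : List β) (i : ℕ) (d : β) : β :=
  List.rec (motive := fun _ => ℕ → β) (fun _ => d)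
    (fun b _ ih i => Nat.rec (motive := fun _ => β) b (fun i' _ => ih i') i) l i

theorem nthD_nil {β : Type} (i : ℕ) (d : β) : nthD ([] : List β) i d = d := rfl
theorem nthD_cons_zero {β : Type} (b : β) (l : List β) (d : β) : nthD (b :: l) 0 d = b := rfl
theorem nthD_cons_succ {β : Type} (b : β) (l : List β) (i : ℕ) (d : β) :
    nthD (b :: l) (i + 1) d = nthD l i d := rfl

theorem nthD_mem_or {β : Type} (l : List β) (d : β) : ∀ i, nthD l i d ∈ l ∨ nthD l i d = d := by
  induction l with
  | nil => intro i; right; rfl
  | cons b l ih =>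
    intro i
    cases i with
    | zero => left; rw [nthD_cons_zero]; exact List.mem_cons_self
    | succ i =>
      rw [nthD_cons_succ]
      rcases ih i with h | h
      · left; exact List.mem_cons_of_mem _ h
      · right; exact h

theorem nthD_of_le {β : Type} (l : List β) (d : β) : ∀ i, l.length ≤ i → nthD l i d = d := by
  induction l with
  | nil => intro i _; rfl
  | cons b l ih =>
    intro i hi
    cases i with
    | zero => simp at hi
    | succ i => rw [nthD_cons_succ]; exact ih i (by simpa using hi)

theorem nthD_mem {β : Type} (l : List β) (d : β) : ∀ i, i < l.length → nthD l i d ∈ l := by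
  induction l with
  | nil => intro i hi; simp at hi
  | cons b l ih =>
    intro i hi
    cases i with
    | zero => rw [nthD_cons_zero]; exact List.mem_cons_self
    | succ i => rw [nthD_cons_succ]; exact List.mem_cons_of_mem _ (ih i (by simpa using hi))

theorem nthD_prop {β : Type} (l : List β) (d : β) (P : β → Prop) (hd : P d) (hl : ∀ b ∈ l, P b)
    (i : ℕ) : P (nthD l i d) := by
  rcases nthD_mem_or l d i with h | h
  · exact hl _ h
  · rw [h]; exact hd

/-! ### Word expressions -/

/-- Expressions for elements of a free group. -/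
inductive WE (α : Type) : Type
  | of (x : α) : WE α
  | mul (a b : WE α) : WE α
  | inv (a : WE α) : WE α
  | pow (a : WE α) (n : ℕ) : WE α

namespace WE

/-- the free group element denoted by an expression -/
def evalF : WE α → FreeGroup α
  | of x => FreeGroup.of x
  | mul a b => evalF a * evalF b
  | inv a => (evalF a)⁻¹
  | pow a n => (evalF a) ^ n

/-- the word of an expression, when all generators are involutions -/
def evalW : WE α → List α
  | of x => [x]
  | mul a b => evalW a ++ evalW b
  | inv a => (evalW a).reverse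
  | pow a n => (List.replicate n (evalW a)).flatten

theorem wval_replicate_flatten {K : Type*} [Group K] (f : α → K) (w : List α) (n : ℕ) :
    wval f (List.replicate n w).flatten = (wval f w) ^ n := by
  induction n with
  | zero => simp [wval]
  | succ n ih =>
    rw [List.replicate_succ, List.flatten_cons, wval_append, ih, pow_succ']

theorem lift_evalF {K : Type*} [Group K] (f : α → K) (hf : ∀ x, f x * f x = 1) (e : WE α) :
    FreeGroup.lift f (evalF e) = wval f (evalW e) := by
  induction e with
  | of x => simp [evalF, evalW, wval]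
  | mul a b iha ihb => simp only [evalF, evalW, map_mul, iha, ihb, wval_append]
  | inv a ih => simp only [evalF, evalW, map_inv, ih, wval_reverse f hf]
  | pow a n ih => simp only [evalF, evalW, map_pow, ih, wval_replicate_flatten]

end WE

theorem lift_pval (rels : Set (FreeGroup α)) (w : FreeGroup α) :
    FreeGroup.lift (pval rels) w = PresentedGroup.mk rels w := by
  have : (FreeGroup.lift (pval rels)) = (PresentedGroup.mk rels) := by
    ext x
    simp [pval, PresentedGroup.of]
  rw [this]

/-- a relator given by an expression kills the word of the expression -/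
theorem wval_pval_eq_one (rels : Set (FreeGroup α)) (hinv : ∀ x, pval rels x * pval rels x = 1)
    (e : WE α) (he : e.evalF ∈ rels) : wval (pval rels) e.evalW = 1 := by
  rw [← WE.lift_evalF (pval rels) hinv, lift_pval]
  exact PresentedGroup.one_of_mem he

/-- the word of a subgroup generator lies in the subgroup -/
theorem wval_pval_mem (rels S : Set (FreeGroup α)) (hinv : ∀ x, pval rels x * pval rels x = 1)
    (e : WE α) (he : e.evalF ∈ S) : wval (pval rels) e.evalW ∈ subH rels S := by
  rw [← WE.lift_evalF (pval rels) hinv, lift_pval]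
  exact Subgroup.mem_map_of_mem _ (Subgroup.subset_closure he)

theorem PermTable.wval_perm {n : ℕ} (T : PermTable α n) (w : List α) :
    wval T.perm w = (w.map T.perm).prod := rfl

/-- a relator expression acts trivially if its word fixes every row -/
theorem PermTable.lift_eq_one {n : ℕ} (T : PermTable α n) (e : WE α)
    (h : ∀ i, i < n → act T.tf e.evalW i = i) : FreeGroup.lift T.perm e.evalF = 1 := by
  rw [WE.lift_evalF T.perm T.perm_mul_self, T.wval_perm]
  exact T.wordPerm_eq_one _ h

/-- a subgroup generator expression fixes row `0` if its word does -/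
theorem PermTable.lift_fix {n : ℕ} (T : PermTable α n) (hn : 0 < n) (e : WE α)
    (h : act T.tf e.evalW 0 = 0) : FreeGroup.lift T.perm e.evalF ⟨0, hn⟩ = ⟨0, hn⟩ := by
  rw [WE.lift_evalF T.perm T.perm_mul_self, T.wval_perm]
  apply Fin.ext
  rw [T.wordPerm_apply_val]
  exact h

/-! ### Coxeter relators as expressions -/

section Cox

variable [DecidableEq α]

/-- the expressions of the Coxeter-graph relators of an edge list -/
def coxE (edges : List (α × ℕ × α)) : List (WE α) :=
  (Cfsg.Spor.coxNodes edges).flatMap fun x =>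
    (Cfsg.Spor.coxNodes edges).map fun y =>
      WE.pow (WE.mul (WE.of x) (WE.of y)) (Cfsg.Spor.coxLabel edges x y)

theorem mem_coxRelators_iff (edges : List (α × ℕ × α)) (r : FreeGroup α) :
    r ∈ Cfsg.Spor.coxRelators edges ↔ ∃ e ∈ coxE edges, r = e.evalF := by
  constructor
  · rintro ⟨x, hx, y, hy, rfl⟩
    exact ⟨_, List.mem_flatMap.2 ⟨x, hx, List.mem_map.2 ⟨y, hy, rfl⟩⟩, rfl⟩
  · rintro ⟨e, he, rfl⟩
    obtain ⟨x, hx, he'⟩ := List.mem_flatMap.1 he
    obtain ⟨y, hy, rfl⟩ := List.mem_map.1 he'
    exact ⟨x, hx, y, hy, rfl⟩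

end Cox

end Cfsg.Agent.Lib.Helper28.TC
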