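/-
Verified coset-enumeration certificates, part 5: orbits of the subgroup `H` on `G ⧸ H`,
computed on the final coset table.
-/
import Cfsg.Agent.Lib.Helper28.TCCheck

set_option autoImplicit false

namespace Cfsg.Agent.Lib.Helper28.TC

variable {α : Type}

/-! ### Counting -/

/-- number of `i` in `[lo, lo + 2^d)` with `p i`, by binary splitting -/
def countRange (p : ℕ → Bool) (d lo : ℕ) : ℕ :=
  Nat.rec (motive := fun _ => ℕ → ℕ) (fun lo => Bool.rec 0 1 (p lo))
    (fun d ih lo => Nat.add (ih lo) (ih (Nat.add lo (Nat.pow 2 d)))) d lo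

theorem countRange_zero (p : ℕ → Bool) (lo : ℕ) : countRange p 0 lo = Bool.rec 0 1 (p lo) := rfl

theorem countRange_succ (p : ℕ → Bool) (d lo : ℕ) :
    countRange p (d + 1) lo = countRange p d lo + countRange p d (lo + 2 ^ d) := rfl

theorem countRange_spec (p : ℕ → Bool) (d : ℕ) : ∀ lo : ℕ,
    countRange p d lo = ((Finset.Ico lo (lo + 2 ^ d)).filter (fun i => p i = true)).card := by
  induction d with
  | zero =>
    intro lo
    rw [countRange_zero, pow_zero, Nat.Ico_succ_singleton]
    cases h : p lo <;> simp [Finset.filter_singleton, h]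
  | succ d ih =>
    intro lo
    rw [countRange_succ, ih, ih]
    have hsplit : Finset.Ico lo (lo + 2 ^ (d + 1)) =
        Finset.Ico lo (lo + 2 ^ d) ∪ Finset.Ico (lo + 2 ^ d) (lo + 2 ^ d + 2 ^ d) := by
      have hpos : 0 < 2 ^ d := Nat.two_pow_pos d
      rw [Finset.Ico_union_Ico_eq_Ico (by omega) (by omega)]
      congr 1
      rw [pow_succ]; omega
    rw [hsplit, Finset.filter_union, Finset.card_union_of_disjoint]
    exact Finset.disjoint_filter_filter (Finset.Ico_disjoint_Ico_consecutive _ _ _)

/-- the number of `i : Fin n` with `p i`, when `n ≤ 2^d` -/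
theorem card_fin_filter (p : ℕ → Bool) (n d : ℕ) (hn : n ≤ 2 ^ d) :
    Set.ncard {i : Fin n | p i = true} = countRange (fun i => band (nlt i n) (p i)) d 0 := by
  rw [countRange_spec, Set.ncard_eq_toFinset_card']
  simp only [Set.toFinset_ofPred, zero_add]
  symm
  apply Finset.card_bij (fun i hi => (⟨i, by
    have := (Finset.mem_filter.1 hi).2
    rw [band_eq_true] at this
    exact nlt_eq_true.1 this.1⟩ : Fin n))
  · intro i hi
    have := (Finset.mem_filter.1 hi).2
    rw [band_eq_true] at this
    simp [this.2]
  · intro i hi j hj h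
    exact Fin.mk.inj_iff.1 h
  · intro i hi
    refine ⟨i.val, ?_, Fin.ext rfl⟩
    rw [Finset.mem_filter, Finset.mem_Ico, band_eq_true]
    refine ⟨⟨Nat.zero_le _, lt_of_lt_of_le i.2 hn⟩, nlt_eq_true.2 i.2, ?_⟩
    simpa using hi

/-! ### Orbit certificates -/

/-- an orbit certificate: membership, depth, parent and generator index, and the root -/
structure OrbCert where
  inO : ℕ → Bool
  dep : ℕ → ℕ
  opar : ℕ → ℕ
  ogen : ℕ → ℕ
  root : ℕ

/-- the check at row `i` -/
def orbRowOK (tf : α → ℕ → ℕ) (n : ℕ) (words : List (List α)) (O : OrbCert) (i : ℕ) : Bool :=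
  Bool.rec true
    (band (allList (fun w => O.inO (act tf w i)) words)
      (Bool.rec
        (band (O.inO (O.opar i)) (band (nlt (O.dep (O.opar i)) (O.dep i))
          (band (band (nlt (O.ogen i) words.length) (nlt (O.opar i) n))
            (Nat.beq (act tf (nthD words (O.ogen i) []) (O.opar i)) i))))
        true (Nat.beq i O.root)))
    (O.inO i)

theorem orbRowOK_spec (tf : α → ℕ → ℕ) (n : ℕ) (words : List (List α)) (O : OrbCert) (i : ℕ)
    (h : orbRowOK tf n words O i = true) (hi : O.inO i = true) :
    (∀ w ∈ words, O.inO (act tf w i) = true) ∧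
    (i = O.root ∨ (O.inO (O.opar i) = true ∧ O.dep (O.opar i) < O.dep i ∧ O.opar i < n ∧
      ∃ w ∈ words, act tf w (O.opar i) = i)) := by
  unfold orbRowOK at h
  rw [hi] at h
  have h' : band (allList (fun w => O.inO (act tf w i)) words)
      (Bool.rec
        (band (O.inO (O.opar i)) (band (nlt (O.dep (O.opar i)) (O.dep i))
          (band (band (nlt (O.ogen i) words.length) (nlt (O.opar i) n))
            (Nat.beq (act tf (nthD words (O.ogen i) []) (O.opar i)) i))))
        true (Nat.beq i O.root)) = true := h
  rw [band_eq_true] at h'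
  refine ⟨fun w hw => allList_spec _ words h'.1 w hw, ?_⟩
  cases hr : Nat.beq i O.root with
  | true => left; exact nbeq_eq_true.1 hr
  | false =>
    right
    have h2 := h'.2
    rw [hr] at h2
    have h3 : band (O.inO (O.opar i)) (band (nlt (O.dep (O.opar i)) (O.dep i))
          (band (band (nlt (O.ogen i) words.length) (nlt (O.opar i) n))
            (Nat.beq (act tf (nthD words (O.ogen i) []) (O.opar i)) i))) = true := h2
    rw [band_eq_true, band_eq_true, band_eq_true, band_eq_true] at h3
    exact ⟨h3.1, nlt_eq_true.1 h3.2.1, nlt_eq_true.1 h3.2.2.1.2, _,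
      nthD_mem words [] _ (nlt_eq_true.1 h3.2.2.1.1), nbeq_eq_true.1 h3.2.2.2⟩

section Orbit

variable {n : ℕ} (T : PermTable α n)

/-- the permutations of the subgroup generator words -/
def wordPerms (words : List (List α)) : Set (Equiv.Perm (Fin n)) :=
  {p | ∃ w ∈ words, p = (w.map T.perm).prod}

/-- The orbit of the group generated by the word permutations is the certified set. -/
theorem orbit_eq_of_cert (words : List (List α)) (O : OrbCert) (hroot : O.root < n)
    (hrootin : O.inO O.root = true)
    (hrows : ∀ i, i < n → orbRowOK T.tf n words O i = true) :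
    MulAction.orbit (Subgroup.closure (wordPerms T words)) (⟨O.root, hroot⟩ : Fin n) =
      {i : Fin n | O.inO i = true} := by
  classical
  set K := Subgroup.closure (wordPerms T words) with hK
  -- the certified set is stable under the generators
  have hstab : ∀ p ∈ wordPerms T words, ∀ i : Fin n, O.inO i = true → O.inO (p i) = true := by
    rintro p ⟨w, hw, rfl⟩ i hi
    rw [T.wordPerm_apply_val]
    exact (orbRowOK_spec T.tf n words O i (hrows i i.2) hi).1 w hw
  -- hence under the whole group
  have hK_stab : ∀ g ∈ K, ∀ i : Fin n, O.inO i = true → O.inO (g i) = true := by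
    intro g hg
    induction hg using Subgroup.closure_induction with
    | mem p hp => exact hstab p hp
    | one => intro i hi; exact hi
    | mul a b _ _ iha ihb => intro i hi; exact iha _ (ihb i hi)
    | inv a ha iha =>
      intro i hi
      -- stability under inverses by finiteness
      have : ∀ q ∈ K, (∀ i : Fin n, O.inO i = true → O.inO (q i) = true) →
          ∀ i : Fin n, O.inO i = true → O.inO (q⁻¹ i) = true := by
        intro q _ hq i hi
        let Sset : Finset (Fin n) := Finset.univ.filter fun i => O.inO i = true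
        have hmap : Sset.image q ⊆ Sset := by
          intro j hj
          obtain ⟨i, hi, rfl⟩ := Finset.mem_image.1 hj
          exact Finset.mem_filter.2 ⟨Finset.mem_univ _, hq i (Finset.mem_filter.1 hi).2⟩
        have heq : Sset.image q = Sset :=
          Finset.eq_of_subset_of_card_le hmap
            (by rw [Finset.card_image_of_injective _ q.injective])
        have hi' : i ∈ Sset.image q := by
          rw [heq]; exact Finset.mem_filter.2 ⟨Finset.mem_univ _, hi⟩
        obtain ⟨j, hj, rfl⟩ := Finset.mem_image.1 hi'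
        simpa using (Finset.mem_filter.1 hj).2
      exact this a ha iha i hi
  -- every certified row is reachable
  have hreach : ∀ d, ∀ i : Fin n, O.inO i = true → O.dep i = d →
      ∃ g ∈ K, g ⟨O.root, hroot⟩ = i := by
    intro d
    induction d using Nat.strong_induction_on with
    | _ d ih =>
      intro i hi hd
      rcases (orbRowOK_spec T.tf n words O i (hrows i i.2) hi).2 with
        h | ⟨hp, hlt, hparlt, w, hw, hact⟩
      · exact ⟨1, K.one_mem, Fin.ext (by simp [h])⟩
      · obtain ⟨g, hg, hgi⟩ := ih _ (hd ▸ hlt) ⟨O.opar i, hparlt⟩ hp rfl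
        refine ⟨(w.map T.perm).prod * g, K.mul_mem (Subgroup.subset_closure ⟨w, hw, rfl⟩) hg, ?_⟩
        rw [Equiv.Perm.mul_apply, hgi]
        apply Fin.ext
        rw [T.wordPerm_apply_val]
        exact hact
  ext i
  constructor
  · rintro ⟨⟨g, hg⟩, rfl⟩
    exact hK_stab g hg _ hrootin
  · intro hi
    obtain ⟨g, hg, hgi⟩ := hreach _ i hi rfl
    exact ⟨⟨g, hg⟩, hgi⟩

end Orbit

section Transport

variable [DecidableEq α] {rels : Set (FreeGroup α)} {S : Set (FreeGroup α)} {n : ℕ}

/-- The size of an `H`-orbit on `G ⧸ H`, from an orbit certificate on the final coset table. -/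
theorem orbit_ncard_of_cert (T : PermTable α n)
    (hrel : ∀ r ∈ rels, FreeGroup.lift T.perm r = 1)
    (e : (PresentedGroup rels ⧸ subH rels S) ≃ Fin n)
    (hequiv : ∀ (g : PresentedGroup rels) (q : PresentedGroup rels ⧸ subH rels S),
      e (g • q) = (PresentedGroup.toGroup hrel g) (e q))
    (words : List (List α))
    (hS : ∀ s ∈ S, ∃ w ∈ words, FreeGroup.lift T.perm s = (w.map T.perm).prod)
    (hW : ∀ w ∈ words, ∃ s ∈ S, FreeGroup.lift T.perm s = (w.map T.perm).prod)
    (O : OrbCert) (hroot : O.root < n) (hrootin : O.inO O.root = true)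
    (hrows : ∀ i, i < n → orbRowOK T.tf n words O i = true)
    (d m : ℕ) (hnd : n ≤ 2 ^ d)
    (hcount : countRange (fun i => band (nlt i n) (O.inO i)) d 0 = m) :
    (MulAction.orbit (subH rels S) (e.symm ⟨O.root, hroot⟩)).ncard = m := by
  classical
  let φ : PresentedGroup rels →* Equiv.Perm (Fin n) := PresentedGroup.toGroup hrel
  -- the image of `H`
  have himage : (subH rels S).map φ = Subgroup.closure (wordPerms T words) := by
    rw [subH, Subgroup.map_map, MonoidHom.map_closure]
    congr 1
    ext p
    constructor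
    · rintro ⟨s, hs, rfl⟩
      obtain ⟨w, hw, h⟩ := hS s hs
      exact ⟨w, hw, by rw [← h]; rfl⟩
    · rintro ⟨w, hw, rfl⟩
      obtain ⟨s, hs, h⟩ := hW w hw
      exact ⟨s, hs, by rw [← h]; rfl⟩
  let r0 : Fin n := ⟨O.root, hroot⟩
  have himg : e '' (MulAction.orbit (subH rels S) (e.symm r0)) =
      MulAction.orbit (Subgroup.closure (wordPerms T words)) r0 := by
    ext i
    constructor
    · rintro ⟨x, ⟨⟨h, hh⟩, rfl⟩, rfl⟩
      have hmem : φ h ∈ Subgroup.closure (wordPerms T words) := by
        rw [← himage]; exact Subgroup.mem_map_of_mem φ hh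
      refine ⟨⟨φ h, hmem⟩, ?_⟩
      show φ h r0 = e (h • e.symm r0)
      rw [hequiv h (e.symm r0), Equiv.apply_symm_apply]
    · rintro ⟨⟨g, hg⟩, rfl⟩
      rw [← himage] at hg
      obtain ⟨h, hh, rfl⟩ := hg
      refine ⟨h • e.symm r0, ⟨⟨h, hh⟩, rfl⟩, ?_⟩
      rw [hequiv h (e.symm r0), Equiv.apply_symm_apply]
      rfl
  rw [← Set.ncard_image_of_injective _ e.injective, himg,
    orbit_eq_of_cert T words O hroot hrootin hrows, card_fin_filter _ n d hnd, hcount]

end Transport

end Cfsg.Agent.Lib.Helper28.TC
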