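/-
Group-theoretic glue for computing the order of a presented group from coset-enumeration
certificates: upper bounds along a chain of sub-presentations, lower bounds along a stabilizer
chain in a permutation representation, primitivity from suborbit sizes.
-/
import Cfsg.Agent.Lib.Helper28.TCOrbit

set_option autoImplicit false

namespace Cfsg.Agent.Lib.Helper28.Ord

open Cfsg.Agent.Lib.Helper28.TC

/-! ### Upper bounds -/

/-- a group with a finite subgroup of finite index is finite, of order index times order -/
theorem card_le_of_index {G : Type*} [Group G] (H : Subgroup G) (n m : ℕ) (hn : 0 < n)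
    (hidx : H.index = n) (hfin : Finite H) (hcard : Nat.card H ≤ m) :
    Finite G ∧ Nat.card G ≤ n * m := by
  have hfi : H.FiniteIndex := ⟨by rw [hidx]; exact Nat.pos_iff_ne_zero.1 hn⟩
  have hq : Finite (G ⧸ H) := Subgroup.finite_quotient_of_finiteIndex
  have hG : Finite G := Finite.of_equiv _ (Subgroup.groupEquivQuotientProdSubgroup (s := H)).symm
  refine ⟨hG, ?_⟩
  rw [← Subgroup.card_mul_index H, hidx, Nat.mul_comm]
  exact Nat.mul_le_mul_left n hcard

/-- a subgroup inside the range of a homomorphism from a finite group -/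
theorem card_le_of_range {P G : Type*} [Group P] [Group G] [Finite P] (ψ : P →* G)
    (H : Subgroup G) (hle : H ≤ ψ.range) : Finite H ∧ Nat.card H ≤ Nat.card P := by
  have hr : Finite ψ.range := Finite.of_surjective ψ.rangeRestrict ψ.rangeRestrict_surjective
  have hinj : Function.Injective (Subgroup.inclusion hle) := Subgroup.inclusion_injective hle
  have hH : Finite H := Finite.of_injective _ hinj
  refine ⟨hH, ?_⟩
  calc Nat.card H ≤ Nat.card ψ.range := Nat.card_le_card_of_injective _ hinj
    _ ≤ Nat.card P := Nat.card_le_card_of_surjective _ ψ.rangeRestrict_surjective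

section Hom

variable {α α' : Type}

theorem wval_comp {K : Type*} [Group K] (f : α → K) (ι : α' → α) (w : List α') :
    wval (fun x => f (ι x)) w = wval f (w.map ι) := by
  induction w with
  | nil => rfl
  | cons x w ih => rw [List.map_cons, wval_cons, wval_cons, ih]

/-- The homomorphism between presented groups induced by a map of generators under which
the relator words go to relator words. -/
theorem exists_hom_of_words [DecidableEq α] [DecidableEq α'] (ι : α' → α) (rels : Set (FreeGroup α)) (rels' : Set (FreeGroup α'))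
    (hinv : ∀ x, pval rels x * pval rels x = 1)
    (L' : List (WE α')) (hL' : ∀ r ∈ rels', ∃ e ∈ L', r = e.evalF)
    (L : List (WE α)) (hL : ∀ e ∈ L, e.evalF ∈ rels)
    (hmap : ∀ e' ∈ L', e'.evalW.map ι ∈ L.map WE.evalW) :
    ∃ ψ : PresentedGroup rels' →* PresentedGroup rels,
      ∀ w : FreeGroup α', ψ (PresentedGroup.mk rels' w) = PresentedGroup.mk rels (FreeGroup.map ι w) := by
  have hf : ∀ x : α', pval rels (ι x) * pval rels (ι x) = 1 := fun x => hinv (ι x)
  have h : ∀ r ∈ rels', FreeGroup.lift (fun x => pval rels (ι x)) r = 1 := by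
    intro r hr
    obtain ⟨e', he', rfl⟩ := hL' r hr
    rw [WE.lift_evalF _ hf, wval_comp]
    obtain ⟨e, he, hew⟩ := List.mem_map.1 (hmap e' he')
    rw [← hew]
    exact wval_pval_eq_one rels hinv e (hL e he)
  refine ⟨PresentedGroup.toGroup h, ?_⟩
  intro w
  have : (PresentedGroup.toGroup h).comp (PresentedGroup.mk rels') =
      (PresentedGroup.mk rels).comp (FreeGroup.map ι) := by
    ext x
    show PresentedGroup.toGroup h (PresentedGroup.of x) = _
    rw [PresentedGroup.toGroup.of]
    rfl
  exact DFunLike.congr_fun this w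

/-- the subgroup generated by images of words is in the range -/
theorem subH_le_range [DecidableEq α] [DecidableEq α'] (ι : α' → α) (rels : Set (FreeGroup α)) (rels' : Set (FreeGroup α'))
    (S : Set (FreeGroup α)) (ψ : PresentedGroup rels' →* PresentedGroup rels)
    (hψ : ∀ w : FreeGroup α', ψ (PresentedGroup.mk rels' w) = PresentedGroup.mk rels (FreeGroup.map ι w))
    (hS : ∀ s ∈ S, ∃ w : FreeGroup α', s = FreeGroup.map ι w) :
    subH rels S ≤ ψ.range := by
  rw [subH, Subgroup.map_le_iff_le_comap, Subgroup.closure_le]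
  intro s hs
  obtain ⟨w, rfl⟩ := hS s hs
  exact ⟨PresentedGroup.mk rels' w, hψ w⟩

end Hom

/-! ### Lower bounds -/

section Chain

variable {A X : Type*} [Group A] [MulAction A X]

theorem chain_step [Finite A] (Q R : Subgroup A) (b : X) (hR : R ≤ Q) :
    (MulAction.orbit R b).ncard * Nat.card (Q ⊓ MulAction.stabilizer A b : Subgroup A) ≤
      Nat.card Q := by
  classical
  have hfin : (MulAction.orbit Q b).Finite := Set.finite_range _
  have hsub : MulAction.orbit R b ⊆ MulAction.orbit Q b := by
    rintro _ ⟨⟨r, hr⟩, rfl⟩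
    exact ⟨⟨r, hR hr⟩, rfl⟩
  have h1 : (MulAction.orbit R b).ncard ≤ (MulAction.orbit Q b).ncard := Set.ncard_le_ncard hsub hfin
  have h2 : Nat.card (MulAction.orbit Q b) * Nat.card (MulAction.stabilizer Q b) = Nat.card Q := by
    rw [← Nat.card_prod]
    exact Nat.card_congr (MulAction.orbitProdStabilizerEquivGroup Q b)
  have h3 : Nat.card (MulAction.stabilizer Q b) =
      Nat.card (Q ⊓ MulAction.stabilizer A b : Subgroup A) := by
    have : MulAction.stabilizer Q b = (MulAction.stabilizer A b).subgroupOf Q := by
      ext ⟨q, hq⟩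
      simp [MulAction.mem_stabilizer_iff, Subgroup.mem_subgroupOf, Subgroup.smul_def]
    rw [this, ← Subgroup.inf_subgroupOf_right, inf_comm]
    exact Nat.card_congr (Subgroup.subgroupOfEquivOfLe inf_le_left).toEquiv
  rw [← h2, h3, Nat.card_coe_set_eq]
  exact Nat.mul_le_mul_right _ h1

/-- The stabilizer-chain lower bound. -/
theorem chain_bound [Finite A] : ∀ (l : List (Subgroup A × X)) (Q : Subgroup A),
    (∀ p ∈ l, p.1 ≤ Q) → l.Pairwise (fun p q => q.1 ≤ MulAction.stabilizer A p.2) →
    (l.map (fun p => (MulAction.orbit p.1 p.2).ncard)).prod ≤ Nat.card Q := by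
  intro l
  induction l with
  | nil =>
    intro Q _ _
    simp only [List.map_nil, List.prod_nil]
    exact Nat.one_le_iff_ne_zero.2 (Nat.card_pos).ne'
  | cons p l ih =>
    intro Q hQ hpw
    rw [List.pairwise_cons] at hpw
    have hl : ∀ q ∈ l, q.1 ≤ Q ⊓ MulAction.stabilizer A p.2 := fun q hq =>
      le_inf (hQ q (List.mem_cons_of_mem _ hq)) (hpw.1 q hq)
    have h1 := ih (Q ⊓ MulAction.stabilizer A p.2) hl hpw.2
    have h2 := chain_step Q p.1 p.2 (hQ p List.mem_cons_self)
    rw [List.map_cons, List.prod_cons]
    exact le_trans (Nat.mul_le_mul_left _ h1) h2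

end Chain


/-! ### Permutation tables -/

section Tab

variable {α : Type} [DecidableEq α] {rels : Set (FreeGroup α)} {n : ℕ}

theorem toGroup_wval (T : PermTable α n) (hrel : ∀ r ∈ rels, FreeGroup.lift T.perm r = 1)
    (w : List α) : PresentedGroup.toGroup hrel (wval (pval rels) w) = (w.map T.perm).prod := by
  induction w with
  | nil => simp [wval]
  | cons x w ih =>
    rw [wval_cons, map_mul, ih, List.map_cons, List.prod_cons]
    rfl

theorem closure_wordPerms_le_range (T : PermTable α n)
    (hrel : ∀ r ∈ rels, FreeGroup.lift T.perm r = 1) (words : List (List α)) :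
    Subgroup.closure (wordPerms T words) ≤ (PresentedGroup.toGroup hrel).range := by
  rw [Subgroup.closure_le]
  rintro p ⟨w, _, rfl⟩
  exact ⟨wval (pval rels) w, toGroup_wval T hrel w⟩

omit [DecidableEq α] in
theorem closure_wordPerms_le_stabilizer (T : PermTable α n) (words : List (List α)) (p : Fin n)
    (h : ∀ w ∈ words, act T.tf w p = p) :
    Subgroup.closure (wordPerms T words) ≤ MulAction.stabilizer (Equiv.Perm (Fin n)) p := by
  rw [Subgroup.closure_le]
  rintro q ⟨w, hw, rfl⟩
  rw [SetLike.mem_coe, MulAction.mem_stabilizer_iff]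
  apply Fin.ext
  show ((w.map T.perm).prod p).val = p.val
  rw [T.wordPerm_apply_val]
  exact h w hw

/-- the fixing check -/
def fixOK (tf : α → ℕ → ℕ) (pts : List ℕ) (words : List (List α)) : Bool :=
  allList (fun w => allList (fun p => Nat.beq (act tf w p) p) pts) words

omit [DecidableEq α] in
theorem fixOK_spec (tf : α → ℕ → ℕ) (pts : List ℕ) (words : List (List α))
    (h : allList (fun w => allList (fun p => Nat.beq (act tf w p) p) pts) words = true) :
    ∀ p ∈ pts, ∀ w ∈ words, act tf w p = p := by
  intro p hp w hw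
  exact nbeq_eq_true.1 (allList_spec _ pts (allList_spec _ words h w hw) p hp)

omit [DecidableEq α] in
/-- the size of an orbit of the group generated by word permutations, from a certificate -/
theorem orbit_ncard_closure (T : PermTable α n) (words : List (List α)) (O : OrbCert)
    (hroot : O.root < n) (hrootin : O.inO O.root = true)
    (hrows : ∀ i, i < n → orbRowOK T.tf n words O i = true)
    (d m : ℕ) (hnd : n ≤ 2 ^ d)
    (hcount : countRange (fun i => band (nlt i n) (O.inO i)) d 0 = m) :
    (MulAction.orbit (Subgroup.closure (wordPerms T words)) (⟨O.root, hroot⟩ : Fin n)).ncard = m := by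
  rw [orbit_eq_of_cert T words O hroot hrootin hrows, card_fin_filter _ n d hnd, hcount]

end Tab

/-! ### Primitivity -/

open MulAction
open scoped Pointwise

section Prim

variable {G : Type*} [Group G] {X : Type*} [MulAction G X]

/-- the union of the orbits of the points of a list -/
def orbUnion (K : Subgroup G) (l : List X) : Set X := {y | ∃ x ∈ l, y ∈ orbit K x}

theorem orbUnion_nil (K : Subgroup G) : orbUnion K ([] : List X) = ∅ := by
  ext y; simp [orbUnion]

theorem orbUnion_cons (K : Subgroup G) (x : X) (l : List X) :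
    orbUnion K (x :: l) = orbit K x ∪ orbUnion K l := by
  ext y; simp [orbUnion]

theorem ncard_orbUnion [Finite X] (K : Subgroup G) : ∀ l : List X,
    l.Pairwise (fun x y => orbit K x ≠ orbit K y) →
    (orbUnion K l).ncard = (l.map fun x => (orbit K x).ncard).sum := by
  intro l
  induction l with
  | nil => intro _; simp [orbUnion_nil]
  | cons x l ih =>
    intro hp
    rw [List.pairwise_cons] at hp
    rw [orbUnion_cons, List.map_cons, List.sum_cons, ← ih hp.2]
    apply Set.ncard_union_eq _ (Set.toFinite _) (Set.toFinite _)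
    rw [Set.disjoint_left]
    rintro y hy ⟨x', hx', hy'⟩
    apply hp.1 x' hx'
    rw [← orbit_eq_iff.2 hy, ← orbit_eq_iff.2 hy']

/-- Primitivity of a transitive action from the sizes of the orbits of a point stabilizer. -/
theorem isPreprimitive_of_suborbits [Finite X] [IsPretransitive G X] (a : X) (K : Subgroup G)
    (hK : K ≤ stabilizer G a) (q : List X) (sizes : List ℕ)
    (hs : (q.map fun x => (orbit K x).ncard) = sizes)
    (h1 : sizes.Nodup) (h2 : 1 ∉ sizes) (h3 : 1 + sizes.sum = Nat.card X)
    (h4 : ∀ l : List ℕ, l.Sublist sizes → (1 + l.sum) ∣ Nat.card X → l.sum = 0 ∨ 1 + l.sum = Nat.card X) :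
    IsPreprimitive G X := by
  classical
  subst hs
  -- the orbit of `a`
  have horba : orbit K a = {a} := by
    ext y
    constructor
    · rintro ⟨⟨k, hk⟩, rfl⟩
      exact (mem_stabilizer_iff.1 (hK hk))
    · rintro rfl; exact mem_orbit_self _
  have hnota : ∀ x ∈ q, a ∉ orbit K x := by
    intro x hx ha
    apply h2
    rw [List.mem_map]
    refine ⟨x, hx, ?_⟩
    rw [← orbit_eq_iff.2 ha, horba, Set.ncard_singleton]
  have hpw : q.Pairwise (fun x y => orbit K x ≠ orbit K y) := by
    rw [List.nodup_iff_pairwise_ne, List.pairwise_map] at h1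
    exact h1.imp (fun h he => h (by rw [he]))
  -- counting a point together with a union of orbits
  have hcnt : ∀ l : List X, l.Sublist q →
      ({a} ∪ orbUnion K l).ncard = 1 + (l.map fun x => (orbit K x).ncard).sum := by
    intro l hl
    rw [Set.ncard_union_eq _ (Set.toFinite _) (Set.toFinite _), Set.ncard_singleton,
      ncard_orbUnion K l (hpw.sublist hl)]
    rw [Set.disjoint_singleton_left]
    rintro ⟨x, hx, hax⟩
    exact hnota x (hl.subset hx) hax
  -- the orbits cover
  have hcover : {a} ∪ orbUnion K q = Set.univ := by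
    rw [Set.eq_univ_iff_ncard, hcnt q (List.Sublist.refl q), h3]
  apply IsPreprimitive.of_isTrivialBlock_base a
  intro B haB hB
  have hKB : K ≤ stabilizer G B := le_trans hK (hB.stabilizer_le haB)
  have hinv : ∀ y ∈ B, orbit K y ⊆ B := by
    rintro y hy _ ⟨⟨k, hk⟩, rfl⟩
    have : (k : G) • B = B := mem_stabilizer_iff.1 (hKB hk)
    rw [← this]
    exact Set.smul_mem_smul_set hy
  set qB := q.filter (fun x => x ∈ B) with hqB
  have hsub : qB.Sublist q := List.filter_sublist
  have hBeq : B = {a} ∪ orbUnion K qB := by
    ext y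
    constructor
    · intro hy
      have : y ∈ ({a} ∪ orbUnion K q : Set X) := by rw [hcover]; trivial
      rcases this with h | ⟨x, hx, hyx⟩
      · left; exact h
      · right
        refine ⟨x, ?_, hyx⟩
        rw [hqB, List.mem_filter]
        refine ⟨hx, ?_⟩
        have hxy : x ∈ orbit K y := by rw [orbit_eq_iff.2 hyx]; exact mem_orbit_self _
        simpa using hinv y hy hxy
    · rintro (h | ⟨x, hx, hyx⟩)
      · rw [Set.mem_singleton_iff] at h; rw [h]; exact haB
      · rw [hqB, List.mem_filter] at hx
        exact hinv x (by simpa using hx.2) hyx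
  have hBcard : B.ncard = 1 + (qB.map fun x => (orbit K x).ncard).sum := by
    rw [hBeq]; exact hcnt qB hsub
  have hdvd : B.ncard ∣ Nat.card X := hB.ncard_dvd_card ⟨a, haB⟩
  rw [hBcard] at hdvd
  rcases h4 _ (hsub.map _) hdvd with h | h
  · left
    rw [h, add_zero] at hBcard
    rw [← Set.ncard_le_one_iff_subsingleton, hBcard]
  · right
    rw [Set.eq_univ_iff_ncard, hBcard, h]

end Prim

end Cfsg.Agent.Lib.Helper28.Ord
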