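/-
Simplicity of a finite group from two primitive coset actions, via the Iwasawa criterion.
-/
import Mathlib

set_option autoImplicit false

namespace Cfsg.Agent.Lib.Helper28.Ord

open MulAction
open scoped Pointwise

section Iwasawa

variable {G : Type*} [Group G]

/-- A subgroup whose index is not a divisor of the order of `K` cannot be the point stabilizer of
a faithful primitive action if `K` has a non-trivial normal core: so `G` acts faithfully on
`G ⧸ K`. -/
theorem faithful_quotient_of_primitive [Finite G] (H K : Subgroup G)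
    [IsPreprimitive G (G ⧸ H)] (hfaith : FaithfulSMul G (G ⧸ H))
    (hdvd : ¬ (H.index ∣ Nat.card K)) : FaithfulSMul G (G ⧸ K) := by
  have hN : K.normalCore = ⊥ := by
    by_contra hne
    have hfix : fixedPoints K.normalCore (G ⧸ H) ≠ Set.univ := by
      intro huniv
      apply hne
      rw [Subgroup.eq_bot_iff_forall]
      intro n hn
      apply hfaith.eq_of_smul_eq_smul
      intro x
      rw [one_smul]
      have hx : x ∈ fixedPoints K.normalCore (G ⧸ H) := by rw [huniv]; trivial
      exact hx ⟨n, hn⟩
    have htr : IsPretransitive K.normalCore (G ⧸ H) :=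
      IsQuasiPreprimitive.isPretransitive_of_normal hfix
    let x0 : G ⧸ H := ((1 : G) : G ⧸ H)
    have horb : orbit K.normalCore x0 = Set.univ := orbit_eq_univ _ x0
    have h1 : Nat.card (orbit K.normalCore x0) * Nat.card (stabilizer K.normalCore x0) =
        Nat.card K.normalCore := by
      rw [← Nat.card_prod]
      exact Nat.card_congr (orbitProdStabilizerEquivGroup K.normalCore x0)
    have h2 : Nat.card (orbit K.normalCore x0) = H.index := by
      rw [horb, Nat.card_coe_set_eq, Set.ncard_univ]
      rfl
    have h3 : H.index ∣ Nat.card K.normalCore := ⟨_, by rw [← h1, h2]⟩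
    exact hdvd (dvd_trans h3 (Subgroup.card_dvd_of_le (Subgroup.normalCore_le K)))
  constructor
  intro g₁ g₂ h
  have hker : (toPermHom G (G ⧸ K)).ker = ⊥ := by rw [← Subgroup.normalCore_eq_ker, hN]
  have hinj := (MonoidHom.ker_eq_bot_iff _).1 hker
  apply hinj
  ext x
  exact h x

/-- conjugation by elements of the normalizer fixes a subgroup -/
theorem map_conj_eq_of_mem_normalizer (Z : Subgroup G) {k : G} (hk : k ∈ Subgroup.normalizer (Z : Set G)) :
    Z.map (MulAut.conj k).toMonoidHom = Z :=
  Subgroup.mem_normalizer_iff_map_conj_eq.1 hk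

/-- The Iwasawa structure on `G ⧸ K` attached to a commutative subgroup `Z` normalized by `K`
whose conjugates generate `G`. -/
noncomputable def iwasawaOfNormalized (K Z : Subgroup G) (hcomm : IsMulCommutative Z)
    (hnorm : K ≤ Subgroup.normalizer (Z : Set G))
    (hgen : Subgroup.normalClosure (Z : Set G) = ⊤) : IwasawaStructure G (G ⧸ K) where
  T := fun q => Quotient.liftOn' q (fun g => Z.map (MulAut.conj g).toMonoidHom) (by
    intro a b hab
    have hk : a⁻¹ * b ∈ K := QuotientGroup.leftRel_apply.1 hab
    have hb : b = a * (a⁻¹ * b) := by group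
    show Z.map (MulAut.conj a).toMonoidHom = Z.map (MulAut.conj b).toMonoidHom
    rw [hb, map_mul]
    conv_rhs => rw [show ((MulAut.conj a * MulAut.conj (a⁻¹ * b) : MulAut G)).toMonoidHom =
      (MulAut.conj a).toMonoidHom.comp (MulAut.conj (a⁻¹ * b)).toMonoidHom from rfl,
      ← Subgroup.map_map, map_conj_eq_of_mem_normalizer Z (hnorm hk)])
  is_comm := by
    intro q
    induction q using QuotientGroup.induction_on with
    | H g =>
      show IsMulCommutative (Z.map (MulAut.conj g).toMonoidHom)
      infer_instance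
  is_conj := by
    intro g q
    induction q using QuotientGroup.induction_on with
    | H g' =>
      show Z.map (MulAut.conj (g * g')).toMonoidHom =
        MulAut.conj g • Z.map (MulAut.conj g').toMonoidHom
      ext x
      rw [Subgroup.mem_smul_pointwise_iff_exists]
      constructor
      · rintro ⟨z, hz, rfl⟩
        refine ⟨MulAut.conj g' z, ⟨z, hz, rfl⟩, ?_⟩
        simp [MulAut.smul_def, MulAut.conj_apply, mul_assoc]
      · rintro ⟨y, ⟨z, hz, rfl⟩, rfl⟩
        refine ⟨z, hz, ?_⟩
        simp [MulAut.smul_def, MulAut.conj_apply, mul_assoc]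
  is_generator := by
    rw [eq_top_iff, ← hgen, Subgroup.normalClosure, Subgroup.closure_le]
    intro x hx
    rw [Group.mem_conjugatesOfSet_iff] at hx
    obtain ⟨z, hz, hconj⟩ := hx
    obtain ⟨c, rfl⟩ := isConj_iff.1 hconj
    have : c * z * c⁻¹ ∈ Z.map (MulAut.conj c).toMonoidHom := ⟨z, hz, rfl⟩
    exact Subgroup.mem_iSup_of_mem ((c : G) : G ⧸ K) this

/-- the cyclic group generated by `z` is normalized by elements that centralize or invert `z` -/
theorem closure_le_normalizer_zpowers [Finite G] (z : G) (S : Set G)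
    (h : ∀ s ∈ S, s * z * s⁻¹ = z ∨ s * z * s⁻¹ = z⁻¹) :
    Subgroup.closure S ≤ Subgroup.normalizer ((Subgroup.zpowers z : Subgroup G) : Set G) := by
  rw [Subgroup.closure_le]
  intro s hs
  apply Subgroup.mem_normalizer_fintype
  rintro n ⟨m, rfl⟩
  show s * z ^ m * s⁻¹ ∈ Subgroup.zpowers z
  rw [← conj_zpow]
  rcases h s hs with h1 | h1
  · rw [h1]; exact ⟨m, rfl⟩
  · rw [h1]; exact ⟨-m, by simp⟩

/-- The Iwasawa criterion packaged for two coset actions. -/
theorem isSimpleGroup_of_two_actions [Finite G] [Nontrivial G] (H K : Subgroup G)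
    [IsPreprimitive G (G ⧸ H)] (hfaith : FaithfulSMul G (G ⧸ H))
    [IsPreprimitive G (G ⧸ K)]
    (hdvd : ¬ (H.index ∣ Nat.card K))
    (z : G) (S : Set G) (hS : K = Subgroup.closure S)
    (hz : ∀ s ∈ S, s * z * s⁻¹ = z ∨ s * z * s⁻¹ = z⁻¹)
    (hgen : Subgroup.normalClosure {z} = ⊤) (hperf : commutator G = ⊤) : IsSimpleGroup G := by
  have hf : FaithfulSMul G (G ⧸ K) := faithful_quotient_of_primitive H K hfaith hdvd
  have hgen' : Subgroup.normalClosure ((Subgroup.zpowers z : Subgroup G) : Set G) = ⊤ := by
    rw [eq_top_iff, ← hgen]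
    apply Subgroup.normalClosure_mono
    intro x hx
    rw [Set.mem_singleton_iff] at hx
    rw [hx]
    exact Subgroup.mem_zpowers z
  have hcomm : IsMulCommutative (Subgroup.zpowers z) := inferInstance
  exact IwasawaStructure.isSimpleGroup hperf
    (iwasawaOfNormalized K (Subgroup.zpowers z) hcomm
      (hS ▸ closure_le_normalizer_zpowers z S hz) hgen') hf

end Iwasawa

end Cfsg.Agent.Lib.Helper28.Ord
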