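/-
A subgroup `K` of index 2 in a finite group `G` is simple as soon as every non-trivial normal
subgroup of `G` contains `K` and the order of `K` is not a square.
-/
import Mathlib

set_option autoImplicit false

namespace Cfsg.Agent.Lib.Helper28.CQ

open scoped Pointwise

theorem isSimpleGroup_of_index_two {G : Type*} [Group G] [Finite G] (K : Subgroup G)
    (hK : K.index = 2) (hmin : ∀ M : Subgroup G, M.Normal → M ≠ ⊥ → K ≤ M)
    (hsq : ∀ m : ℕ, m * m ≠ Nat.card K) (hnt : Nontrivial K) : IsSimpleGroup K := by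
  have hKn : K.Normal := Subgroup.normal_of_index_eq_two hK
  obtain ⟨t, ht⟩ : ∃ t, t ∉ K := by
    by_contra h
    push_neg at h
    have : K = ⊤ := eq_top_iff.2 (fun x _ => h x)
    rw [this, Subgroup.index_top] at hK
    omega
  have hti : t⁻¹ ∉ K := fun h => ht (by simpa using K.inv_mem h)
  refine { exists_pair_ne := hnt.exists_pair_ne, eq_bot_or_eq_top_of_normal := ?_ }
  intro M hM
  by_contra hcon
  push_neg at hcon
  obtain ⟨hMbot, hMtop⟩ := hcon
  let M₀ : Subgroup G := M.map K.subtype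
  let M₁ : Subgroup G := M₀.map (MulAut.conj t).toMonoidHom
  have mem0 : ∀ x, x ∈ M₀ ↔ ∃ m ∈ M, (m : G) = x := fun x => Subgroup.mem_map
  have mem1 : ∀ x, x ∈ M₁ ↔ ∃ y ∈ M₀, t * y * t⁻¹ = x := fun x => by
    show x ∈ M₀.map (MulAut.conj t).toMonoidHom ↔ _
    rw [Subgroup.mem_map]
    rfl
  have F1 : M₀ ≤ K := by
    intro x hx
    obtain ⟨m, _, rfl⟩ := (mem0 x).1 hx
    exact m.2
  have F1' : M₁ ≤ K := by
    intro x hx
    obtain ⟨y, hy, rfl⟩ := (mem1 x).1 hx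
    exact hKn.conj_mem y (F1 hy) t
  have F2 : ∀ k ∈ K, ∀ y ∈ M₀, k * y * k⁻¹ ∈ M₀ := by
    intro k hk y hy
    obtain ⟨m, hm, rfl⟩ := (mem0 y).1 hy
    exact (mem0 _).2 ⟨⟨k, hk⟩ * m * ⟨k, hk⟩⁻¹, hM.conj_mem m hm ⟨k, hk⟩, rfl⟩
  have F3 : ∀ k ∈ K, ∀ y ∈ M₁, k * y * k⁻¹ ∈ M₁ := by
    intro k hk y hy
    obtain ⟨y', hy', rfl⟩ := (mem1 y).1 hy
    have hk' : t⁻¹ * k * t ∈ K := by
      have := hKn.conj_mem k hk t⁻¹
      simpa using this
    refine (mem1 _).2 ⟨(t⁻¹ * k * t) * y' * (t⁻¹ * k * t)⁻¹, F2 _ hk' y' hy', ?_⟩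
    group
  have F4 : ∀ g, g ∉ K → ∀ y ∈ M₀, g * y * g⁻¹ ∈ M₁ := by
    intro g hg y hy
    have hk : t⁻¹ * g ∈ K := by
      rw [Subgroup.mul_mem_iff_of_index_two hK]
      exact ⟨fun h => absurd h hti, fun h => absurd h hg⟩
    refine (mem1 _).2 ⟨(t⁻¹ * g) * y * (t⁻¹ * g)⁻¹, F2 _ hk y hy, ?_⟩
    group
  have F5 : ∀ g, g ∉ K → ∀ y ∈ M₁, g * y * g⁻¹ ∈ M₀ := by
    intro g hg y hy
    obtain ⟨y', hy', rfl⟩ := (mem1 y).1 hy
    have hk : g * t ∈ K := by
      rw [Subgroup.mul_mem_iff_of_index_two hK]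
      exact ⟨fun h => absurd h hg, fun h => absurd h ht⟩
    have := F2 _ hk y' hy'
    have he : g * (t * y' * t⁻¹) * g⁻¹ = g * t * y' * (g * t)⁻¹ := by group
    rw [he]
    exact this
  -- the intersection and the join are normal in `G`
  have hA : (M₀ ⊓ M₁).Normal := by
    refine ⟨fun x hx g => ?_⟩
    by_cases hg : g ∈ K
    · exact ⟨F2 g hg x hx.1, F3 g hg x hx.2⟩
    · exact ⟨F5 g hg x hx.2, F4 g hg x hx.1⟩
  have hB : (M₀ ⊔ M₁).Normal := by
    refine ⟨fun x hx g => ?_⟩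
    have hle : M₀ ⊔ M₁ ≤ (M₀ ⊔ M₁).comap (MulAut.conj g).toMonoidHom := by
      apply sup_le
      · intro y hy
        show g * y * g⁻¹ ∈ M₀ ⊔ M₁
        by_cases hg : g ∈ K
        · exact Subgroup.mem_sup_left (F2 g hg y hy)
        · exact Subgroup.mem_sup_right (F4 g hg y hy)
      · intro y hy
        show g * y * g⁻¹ ∈ M₀ ⊔ M₁
        by_cases hg : g ∈ K
        · exact Subgroup.mem_sup_right (F3 g hg y hy)
        · exact Subgroup.mem_sup_left (F5 g hg y hy)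
    exact hle hx
  have hM₀ : M₀ ≠ ⊥ := by
    intro h
    apply hMbot
    rw [Subgroup.eq_bot_iff_forall]
    intro m hm
    have : (m : G) ∈ M₀ := (mem0 _).2 ⟨m, hm, rfl⟩
    rw [h, Subgroup.mem_bot] at this
    exact Subtype.ext this
  have hBK : M₀ ⊔ M₁ = K := by
    apply le_antisymm (sup_le F1 F1')
    apply hmin _ hB
    intro h
    apply hM₀
    rw [eq_bot_iff, ← h]
    exact le_sup_left
  have hAbot : M₀ ⊓ M₁ = ⊥ := by
    by_contra hne
    have hKA := hmin _ hA hne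
    apply hMtop
    rw [eq_top_iff]
    intro k _
    have : (k : G) ∈ M₀ := (hKA k.2).1
    obtain ⟨m, hm, hmk⟩ := (mem0 _).1 this
    have : m = k := Subtype.ext hmk
    rw [← this]
    exact hm
  -- count
  let M' : Subgroup K := M₁.subgroupOf K
  have hdisj : Disjoint M M' := by
    rw [Subgroup.disjoint_def]
    intro x hx hx'
    have h0 : (x : G) ∈ M₀ := (mem0 _).2 ⟨x, hx, rfl⟩
    have h1 : (x : G) ∈ M₁ := Subgroup.mem_subgroupOf.1 hx'
    have : (x : G) ∈ M₀ ⊓ M₁ := ⟨h0, h1⟩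
    rw [hAbot, Subgroup.mem_bot] at this
    exact Subtype.ext this
  have hnorm : M₀ ≤ Subgroup.normalizer (M₁ : Set G) := by
    intro y hy
    rw [Subgroup.mem_normalizer_iff]
    intro z
    constructor
    · intro hz
      exact F3 y (F1 hy) z hz
    · intro hz
      have := F3 y⁻¹ (K.inv_mem (F1 hy)) _ hz
      have he : y⁻¹ * (y * z * y⁻¹) * y⁻¹⁻¹ = z := by group
      rw [he] at this
      exact this
  have hprod : (M : Set K) * (M' : Set K) = Set.univ := by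
    rw [Set.eq_univ_iff_forall]
    intro k
    have hk : (k : G) ∈ ((M₀ ⊔ M₁ : Subgroup G) : Set G) := by
      rw [hBK]
      exact k.2
    rw [Subgroup.coe_mul_of_left_le_normalizer_right M₀ M₁ hnorm] at hk
    obtain ⟨y, hy, z, hz, hyz⟩ := hk
    obtain ⟨m, hm, rfl⟩ := (mem0 y).1 hy
    refine ⟨m, hm, ⟨z, F1' hz⟩, Subgroup.mem_subgroupOf.2 hz, ?_⟩
    exact Subtype.ext hyz
  have hcomp := Subgroup.isComplement'_of_disjoint_and_mul_eq_univ hdisj hprod
  have hcard := hcomp.card_mul_card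
  have h1 : Nat.card M' = Nat.card M₁ :=
    Nat.card_congr (Subgroup.subgroupOfEquivOfLe F1').toEquiv
  have h2 : Nat.card M₁ = Nat.card M₀ :=
    (Nat.card_congr (M₀.equivMapOfInjective (MulAut.conj t).toMonoidHom
      (MulAut.conj t).injective).toEquiv).symm
  have h3 : Nat.card M₀ = Nat.card M :=
    (Nat.card_congr (M.equivMapOfInjective K.subtype K.subtype_injective).toEquiv).symm
  rw [h1, h2, h3] at hcard
  exact hsq _ hcard

end Cfsg.Agent.Lib.Helper28.CQ
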