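/-
Counting in blocks, for orbit certificates on large tables.
-/
import Cfsg.Agent.Lib.Helper28.TCOrbit

set_option autoImplicit false

namespace Cfsg.Agent.Lib.Helper28.TC

/-- a count over `[lo, lo + 2^(d+k))` as the sum of the counts over the `2^k` blocks of length `2^d` -/
theorem countRange_split (p : ℕ → Bool) (d : ℕ) : ∀ (k lo : ℕ),
    countRange p (d + k) lo =
      ((List.range (2 ^ k)).map (fun j => countRange p d (lo + j * 2 ^ d))).sum := by
  intro k
  induction k with
  | zero => intro lo; simp
  | succ k ih =>
    intro lo
    rw [← Nat.add_assoc, countRange_succ, ih lo, ih (lo + 2 ^ (d + k))]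
    rw [pow_succ, Nat.mul_two, List.range_add, List.map_append, List.sum_append, List.map_map]
    congr 2
    apply List.map_congr_left
    intro j _
    simp only [Function.comp]
    congr 1
    rw [pow_add]
    ring

end Cfsg.Agent.Lib.Helper28.TC
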