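/-
Verified coset-enumeration certificates, second version: letters may have formal inverses
(`binv`), so generators need not be involutions.  The scanning machinery of `TCCore` is reused;
only the pair justifications and the fact checks change.
-/
import Cfsg.Agent.Lib.Helper28.TCCheck

set_option autoImplicit false

namespace Cfsg.Agent.Lib.Helper28.TC2

open Cfsg.Agent.Lib.Helper28.TC

variable {β : Type}

/-- source row of a pair justification (version with inverse letters) -/
def pairB2 [DecidableEq β] (C : Cert β) (binv : β → β) (r : ℕ) (x : β) (k a p z : ℕ) : ℕ :=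
  Nat.rec (motive := fun _ => ℕ) 0 (fun k1 _ =>
    Nat.rec (motive := fun _ => ℕ)
      (Bool.rec 0 (Nat.rec (motive := fun _ => ℕ) 0 (fun _ _ => Nat.succ a) (C.ent x a))
        (nlt (C.rkE x a) r))
      (fun k2 _ => Nat.rec (motive := fun _ => ℕ)
        (Bool.rec 0 (C.ent (binv x) a) (nlt (C.rkE (binv x) a) r))
        (fun k3 _ => Nat.rec (motive := fun _ => ℕ)
          (Bool.rec 0 (scanN C r (C.cycR a) (Nat.sub (C.cycL a) p) (Nat.succ z))
            (band (isLetterAt (C.cycW a) (Nat.pred p) x)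
              (band (nlt 0 p) (band (Nat.ble p (C.cycL a))
                (Bool.rec true (Nat.beq z 0) (C.cycA a))))))
          (fun _ _ => 0) k3) k2) k1) k

/-- target row of a pair justification (version with inverse letters) -/
def pairA2 (C : Cert β) (binv : β → β) (cycI : ℕ → List β) (r : ℕ) (x : β) (k a p z : ℕ) : ℕ :=
  Nat.rec (motive := fun _ => ℕ) 0 (fun k1 _ =>
    Nat.rec (motive := fun _ => ℕ)
      (Bool.rec 0 (C.ent x a) (nlt (C.rkE x a) r))
      (fun k2 _ => Nat.rec (motive := fun _ => ℕ)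
        (Bool.rec 0 (Nat.rec (motive := fun _ => ℕ) 0 (fun _ _ => Nat.succ a) (C.ent (binv x) a))
          (nlt (C.rkE (binv x) a) r))
        (fun k3 _ => Nat.rec (motive := fun _ => ℕ)
          (scanN C r (cycI a) (Nat.pred p) (Nat.succ z))
          (fun _ _ => 0) k3) k2) k1) k

/-- Check of the `E`-fact at `(x, u)`. -/
def checkE2 [DecidableEq β] (C : Cert β) (binv : β → β) (cycI : ℕ → List β) (x : β) (u : ℕ) : Bool :=
  Nat.rec (motive := fun _ => Bool) true (fun w _ =>
    Nat.rec (motive := fun _ => Bool)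
      (band (nlt 0 w) (band (Nat.beq (C.par w) u) (band (nlt u w) (decide (C.gn w = x)))))
      (fun _ _ =>
        band (sameN C (C.rkE x u)
                (pairB2 C binv (C.rkE x u) x (C.jEk x u) (C.jEa x u) (C.jEp x u) (C.jEz x u))
                (Nat.succ u))
             (sameN C (C.rkE x u)
                (pairA2 C binv cycI (C.rkE x u) x (C.jEk x u) (C.jEa x u) (C.jEp x u) (C.jEz x u))
                (Nat.succ w)))
      (C.jEk x u)) (C.ent x u)

/-- Check of the `A`-fact at `k`. -/
def checkA' [DecidableEq β] (C : Cert β) (binv : β → β) (cycI : ℕ → List β) (k : ℕ) : Bool :=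
  Nat.rec (motive := fun _ => Bool) true (fun j _ =>
    checkA2 C (C.rkA k) k j
      (pairB2 C binv (C.rkA k) (C.jAx k) (C.jA1k k) (C.jA1a k) (C.jA1p k) (C.jA1z k))
      (pairA2 C binv cycI (C.rkA k) (C.jAx k) (C.jA1k k) (C.jA1a k) (C.jA1p k) (C.jA1z k))
      (pairB2 C binv (C.rkA k) (C.jAx k) (C.jA2k k) (C.jA2a k) (C.jA2p k) (C.jA2z k))
      (pairA2 C binv cycI (C.rkA k) (C.jAx k) (C.jA2k k) (C.jA2a k) (C.jA2p k) (C.jA2z k)))
    (C.al k)

/-- Structural hypotheses on the cycle words. -/
def CycOK2 (C : Cert β) (binv : β → β) (cycI : ℕ → List β) : Prop :=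
  ∀ ci, C.cycR ci = (C.cycW ci).reverse ∧ C.cycL ci = (C.cycW ci).length ∧
    cycI ci = (C.cycW ci).map binv

section Semantics

variable {G : Type*} {X : Type*} [Group G] [MulAction G X]

theorem wval_map_binv_reverse (val : β → G) (binv : β → β)
    (hb : ∀ x, val (binv x) = (val x)⁻¹) (w : List β) :
    wval val (w.map binv).reverse = (wval val w)⁻¹ := by
  induction w with
  | nil => simp [wval]
  | cons x w ih =>
    rw [List.map_cons, List.reverse_cons, wval_append, ih, wval_cons, wval_cons, wval_nil, mul_one,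
      mul_inv_rev, hb]

variable (C : Cert β) (binv : β → β) (cycI : ℕ → List β) (val : β → G) (base : X)

variable [DecidableEq β]

theorem pair_sound2 (hb : ∀ x, val (binv x) = (val x)⁻¹) (hc : CycOK2 C binv cycI)
    (hv : CycVal C val base)
    (r : ℕ) (h : Holds C val base r) (x : β) (k a p z b' a' : ℕ)
    (hB : pairB2 C binv r x k a p z = b' + 1) (hA : pairA2 C binv cycI r x k a p z = a' + 1) :
    val x • cpt C val base b' = cpt C val base a' := by
  match k with
  | 0 => cases hB
  | 1 =>
    have hb1 : Bool.rec 0 (Nat.rec (motive := fun _ => ℕ) 0 (fun _ _ => Nat.succ a) (C.ent x a))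
        (nlt (C.rkE x a) r) = b' + 1 := hB
    have ha1 : Bool.rec 0 (C.ent x a) (nlt (C.rkE x a) r) = a' + 1 := hA
    cases hlt : nlt (C.rkE x a) r with
    | false => rw [hlt] at ha1; cases ha1
    | true =>
      rw [hlt] at ha1 hb1
      have ha2 : C.ent x a = a' + 1 := ha1
      rw [ha2] at hb1
      have hb2 : a = b' := Nat.succ_injective hb1
      have := h.1 x a (by rw [ha2]; exact Nat.succ_ne_zero _) (nlt_eq_true.1 hlt)
      rw [ha2] at this
      rw [← hb2]; exact this
  | 2 =>
    have ha1 : Bool.rec 0 (Nat.rec (motive := fun _ => ℕ) 0 (fun _ _ => Nat.succ a)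
        (C.ent (binv x) a)) (nlt (C.rkE (binv x) a) r) = a' + 1 := hA
    have hb1 : Bool.rec 0 (C.ent (binv x) a) (nlt (C.rkE (binv x) a) r) = b' + 1 := hB
    cases hlt : nlt (C.rkE (binv x) a) r with
    | false => rw [hlt] at hb1; cases hb1
    | true =>
      rw [hlt] at ha1 hb1
      have hb2 : C.ent (binv x) a = b' + 1 := hb1
      rw [hb2] at ha1
      have ha2 : a = a' := Nat.succ_injective ha1
      have := h.1 (binv x) a (by rw [hb2]; exact Nat.succ_ne_zero _) (nlt_eq_true.1 hlt)
      rw [hb2] at this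
      have this' : cpt C val base b' = val (binv x) • cpt C val base a := this.symm
      rw [← ha2, this', hb x, ← mul_smul, mul_inv_cancel, one_smul]
  | 3 =>
    have ha1 : scanN C r (cycI a) (Nat.pred p) (Nat.succ z) = a' + 1 := hA
    have hb1 : Bool.rec 0 (scanN C r (C.cycR a) (Nat.sub (C.cycL a) p) (Nat.succ z))
            (band (isLetterAt (C.cycW a) (Nat.pred p) x)
              (band (nlt 0 p) (band (Nat.ble p (C.cycL a))
                (Bool.rec true (Nat.beq z 0) (C.cycA a))))) = b' + 1 := hB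
    cases hcond : (band (isLetterAt (C.cycW a) (Nat.pred p) x)
              (band (nlt 0 p) (band (Nat.ble p (C.cycL a))
                (Bool.rec true (Nat.beq z 0) (C.cycA a))))) with
    | false => rw [hcond] at hb1; cases hb1
    | true =>
      rw [hcond] at hb1
      have hb2 : scanN C r (C.cycR a) (Nat.sub (C.cycL a) p) (Nat.succ z) = b' + 1 := hb1
      rw [band_eq_true, band_eq_true, band_eq_true] at hcond
      obtain ⟨hlet, hp0, hpL, hanch⟩ := hcond
      have hp0' : 0 < p := nlt_eq_true.1 hp0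
      have hpL' : p ≤ C.cycL a := Nat.le_of_ble_eq_true hpL
      obtain ⟨hR, hL, hI⟩ := hc a
      have hsplit := isLetterAt_spec (C.cycW a) (Nat.pred p) x hlet
      have hpp : Nat.pred p + 1 = p := Nat.succ_pred_eq_of_pos hp0'
      rw [hpp] at hsplit
      have hz : C.cycA a = true → z = 0 := by
        intro hA'
        rw [hA'] at hanch
        exact nbeq_eq_true.1 hanch
      have hfix := hv a z hz
      rw [scanN_eq_scanL] at ha1 hb2
      have hAA := scanL_sound C val base r h _ z a' ha1
      have hBB := scanL_sound C val base r h _ z b' hb2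
      rw [hI, ← List.map_take, wval_map_binv_reverse val binv hb] at hAA
      have htake : ((C.cycR a).take (Nat.sub (C.cycL a) p)).reverse = (C.cycW a).drop p := by
        rw [hR, hL, List.take_reverse, List.reverse_reverse]
        congr 1
        have : p ≤ (C.cycW a).length := hL ▸ hpL'
        show (C.cycW a).length - ((C.cycW a).length - p) = p
        omega
      rw [htake] at hBB
      rw [hsplit, wval_append, wval_cons, mul_smul, mul_smul] at hfix
      rw [hAA, hBB, eq_inv_smul_iff]
      exact hfix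
  | (k + 4) => cases hB

theorem checkE2_sound (hb : ∀ x, val (binv x) = (val x)⁻¹) (hc : CycOK2 C binv cycI)
    (hv : CycVal C val base)
    (x : β) (u : ℕ) (h : Holds C val base (C.rkE x u)) (hchk : checkE2 C binv cycI x u = true)
    (hne : C.ent x u ≠ 0) :
    val x • cpt C val base u = cpt C val base (C.ent x u - 1) := by
  obtain ⟨w, hw⟩ := Nat.exists_eq_succ_of_ne_zero hne
  unfold checkE2 at hchk
  rw [hw] at hchk ⊢
  show _ = cpt C val base w
  cases hk : C.jEk x u with
  | zero =>
    rw [hk] at hchk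
    have hchk' : band (nlt 0 w) (band (Nat.beq (C.par w) u) (band (nlt u w) (decide (C.gn w = x))))
        = true := hchk
    rw [band_eq_true, band_eq_true, band_eq_true] at hchk'
    obtain ⟨h0, hpar, hlt, hgn⟩ := hchk'
    have hpar' := nbeq_eq_true.1 hpar
    have hgn' : C.gn w = x := of_decide_eq_true hgn
    rw [cpt_of_tree C val base w ⟨nlt_eq_true.1 h0, by rw [hpar']; exact nlt_eq_true.1 hlt⟩,
      hpar', hgn']
  | succ k' =>
    rw [hk] at hchk
    have hchk' : band (sameN C (C.rkE x u)
                (pairB2 C binv (C.rkE x u) x (k' + 1) (C.jEa x u) (C.jEp x u) (C.jEz x u))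
                (Nat.succ u))
             (sameN C (C.rkE x u)
                (pairA2 C binv cycI (C.rkE x u) x (k' + 1) (C.jEa x u) (C.jEp x u) (C.jEz x u))
                (Nat.succ w)) = true := hchk
    rw [band_eq_true] at hchk'
    obtain ⟨b', u', hb', hu, hbu⟩ := sameN_sound C val base _ h _ _ hchk'.1
    obtain ⟨a', w', ha, hw', haw⟩ := sameN_sound C val base _ h _ _ hchk'.2
    have hu' : u = u' := Nat.succ_injective hu
    have hw'' : w = w' := Nat.succ_injective hw'
    have := pair_sound2 C binv cycI val base hb hc hv _ h x _ _ _ _ b' a' hb' ha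
    rw [hu', hw'', ← hbu, ← haw]; exact this

theorem checkA'_sound (hb : ∀ x, val (binv x) = (val x)⁻¹) (hc : CycOK2 C binv cycI)
    (hv : CycVal C val base)
    (k : ℕ) (h : Holds C val base (C.rkA k)) (hchk : checkA' C binv cycI k = true)
    (hne : C.al k ≠ 0) :
    cpt C val base k = cpt C val base (C.al k - 1) := by
  obtain ⟨j, hj⟩ := Nat.exists_eq_succ_of_ne_zero hne
  unfold checkA' at hchk
  rw [hj] at hchk ⊢
  show _ = cpt C val base j
  have hchk' : checkA2 C (C.rkA k) k j
      (pairB2 C binv (C.rkA k) (C.jAx k) (C.jA1k k) (C.jA1a k) (C.jA1p k) (C.jA1z k))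
      (pairA2 C binv cycI (C.rkA k) (C.jAx k) (C.jA1k k) (C.jA1a k) (C.jA1p k) (C.jA1z k))
      (pairB2 C binv (C.rkA k) (C.jAx k) (C.jA2k k) (C.jA2a k) (C.jA2p k) (C.jA2z k))
      (pairA2 C binv cycI (C.rkA k) (C.jAx k) (C.jA2k k) (C.jA2a k) (C.jA2p k) (C.jA2z k)) = true :=
    hchk
  unfold checkA2 at hchk'
  cases hsrc : sameN C (C.rkA k)
      (pairB2 C binv (C.rkA k) (C.jAx k) (C.jA1k k) (C.jA1a k) (C.jA1p k) (C.jA1z k))
      (pairB2 C binv (C.rkA k) (C.jAx k) (C.jA2k k) (C.jA2a k) (C.jA2p k) (C.jA2z k)) with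
  | true =>
    rw [hsrc] at hchk'
    have hchk2 : band (sameN C (C.rkA k) (pairA2 C binv cycI (C.rkA k) (C.jAx k) (C.jA1k k) (C.jA1a k) (C.jA1p k) (C.jA1z k)) (Nat.succ k))
        (sameN C (C.rkA k) (pairA2 C binv cycI (C.rkA k) (C.jAx k) (C.jA2k k) (C.jA2a k) (C.jA2p k) (C.jA2z k)) (Nat.succ j)) = true := hchk'
    rw [band_eq_true] at hchk2
    obtain ⟨b₁, b₂, hb₁, hb₂, hbb⟩ := sameN_sound C val base _ h _ _ hsrc
    obtain ⟨a₁, k', ha₁, hk', hak⟩ := sameN_sound C val base _ h _ _ hchk2.1
    obtain ⟨a₂, j', ha₂, hj', haj⟩ := sameN_sound C val base _ h _ _ hchk2.2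
    have e1 := pair_sound2 C binv cycI val base hb hc hv _ h _ _ _ _ _ b₁ a₁ hb₁ ha₁
    have e2 := pair_sound2 C binv cycI val base hb hc hv _ h _ _ _ _ _ b₂ a₂ hb₂ ha₂
    have hk'' : k = k' := Nat.succ_injective hk'
    have hj'' : j = j' := Nat.succ_injective hj'
    rw [hk'', hj'', ← hak, ← haj, ← e1, ← e2, hbb]
  | false =>
    rw [hsrc] at hchk'
    have hchk2 : band (sameN C (C.rkA k) (pairA2 C binv cycI (C.rkA k) (C.jAx k) (C.jA1k k) (C.jA1a k) (C.jA1p k) (C.jA1z k))
          (pairA2 C binv cycI (C.rkA k) (C.jAx k) (C.jA2k k) (C.jA2a k) (C.jA2p k) (C.jA2z k)))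
        (band (sameN C (C.rkA k) (pairB2 C binv (C.rkA k) (C.jAx k) (C.jA1k k) (C.jA1a k) (C.jA1p k) (C.jA1z k)) (Nat.succ k))
          (sameN C (C.rkA k) (pairB2 C binv (C.rkA k) (C.jAx k) (C.jA2k k) (C.jA2a k) (C.jA2p k) (C.jA2z k)) (Nat.succ j))) = true := hchk'
    rw [band_eq_true, band_eq_true] at hchk2
    obtain ⟨a₁, a₂, ha₁, ha₂, haa⟩ := sameN_sound C val base _ h _ _ hchk2.1
    obtain ⟨b₁, k', hb₁, hk', hbk⟩ := sameN_sound C val base _ h _ _ hchk2.2.1
    obtain ⟨b₂, j', hb₂, hj', hbj⟩ := sameN_sound C val base _ h _ _ hchk2.2.2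
    have e1 := pair_sound2 C binv cycI val base hb hc hv _ h _ _ _ _ _ b₁ a₁ hb₁ ha₁
    have e2 := pair_sound2 C binv cycI val base hb hc hv _ h _ _ _ _ _ b₂ a₂ hb₂ ha₂
    have hk'' : k = k' := Nat.succ_injective hk'
    have hj'' : j = j' := Nat.succ_injective hj'
    rw [hk'', hj'', ← hbk, ← hbj]
    have : val (C.jAx k) • cpt C val base b₁ = val (C.jAx k) • cpt C val base b₂ := by
      rw [e1, e2, haa]
    exact (MulAction.injective (val (C.jAx k))) this

/-- If every fact passes its check, every fact holds. -/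
theorem holds_all2 (hb : ∀ x, val (binv x) = (val x)⁻¹) (hc : CycOK2 C binv cycI)
    (hv : CycVal C val base)
    (hE : ∀ x u, checkE2 C binv cycI x u = true) (hA : ∀ k, checkA' C binv cycI k = true) :
    ∀ r, Holds C val base r := by
  intro r
  induction r with
  | zero => exact ⟨fun _ _ _ h => absurd h (Nat.not_lt_zero _), fun _ _ h => absurd h (Nat.not_lt_zero _)⟩
  | succ r ih =>
    refine ⟨fun x u hne hlt => ?_, fun k hne hlt => ?_⟩
    · rcases Nat.lt_succ_iff_lt_or_eq.1 hlt with hlt' | heq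
      · exact ih.1 x u hne hlt'
      · exact checkE2_sound C binv cycI val base hb hc hv x u (heq ▸ ih) (hE x u) hne
    · rcases Nat.lt_succ_iff_lt_or_eq.1 hlt with hlt' | heq
      · exact ih.2 k hne hlt'
      · exact checkA'_sound C binv cycI val base hb hc hv k (heq ▸ ih) (hA k) hne

end Semantics

end Cfsg.Agent.Lib.Helper28.TC2
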