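/-
Verified coset-enumeration certificates, second version, part 3: tree-shaped packed tables,
word expressions over letters with formal inverses, and economical row checks for the relators
(Coxeter pairs with skipping, relators containing a high power).
-/
import Cfsg.Agent.Lib.Helper28.TC2Main

set_option autoImplicit false

namespace Cfsg.Agent.Lib.Helper28.TC2

open Cfsg.Agent.Lib.Helper28.TC

variable {α β : Type}

/-! ### Trees of packed chunks -/

/-- A binary tree of packed chunks; a node stores the number of entries of its left subtree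
minus one. -/
inductive BT : Type
  | leaf (v : ℕ)
  | node (s : ℕ) (l r : BT)

/-- entry `i` of a tree of packed chunks of `b`-bit entries (`m = 2^b - 1`) -/
noncomputable def BT.look (t : BT) (b m : ℕ) (i : ℕ) : ℕ :=
  BT.rec (motive := fun _ => ℕ → ℕ) (fun v i => TC.look v b m i)
    (fun s _ _ ihl ihr i =>
      Nat.rec (motive := fun _ => ℕ) (ihl i) (fun d _ => ihr d) (Nat.sub i s)) t i

/-- a guarded value: `v` below the bound, `0` from the bound on -/
def below (N u v : ℕ) : ℕ := Bool.rec 0 v (nlt u N)

theorem below_of_le (N u v : ℕ) (h : N ≤ u) : below N u v = 0 := by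
  unfold below
  have : nlt u N = false := by
    cases hb : nlt u N with
    | false => rfl
    | true => exact absurd (nlt_eq_true.1 hb) (Nat.not_lt.2 h)
  rw [this]

/-! ### Word expressions over letters with formal inverses -/

/-- the word of an expression -/
def evalW2 (emb : α → β) (binv : β → β) : WE α → List β
  | WE.of x => [emb x]
  | WE.mul a b => evalW2 emb binv a ++ evalW2 emb binv b
  | WE.inv a => ((evalW2 emb binv a).map binv).reverse
  | WE.pow a n => (List.replicate n (evalW2 emb binv a)).flatten

theorem lift_evalF2 {K : Type*} [Group K] (emb : α → β) (binv : β → β) (f : β → K)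
    (hf : ∀ y, f (binv y) = (f y)⁻¹) (e : WE α) :
    FreeGroup.lift (fun a => f (emb a)) (WE.evalF e) = wval f (evalW2 emb binv e) := by
  induction e with
  | of x => simp [WE.evalF, evalW2, wval]
  | mul a b iha ihb => simp only [WE.evalF, evalW2, map_mul, iha, ihb, wval_append]
  | inv a ih => simp only [WE.evalF, evalW2, map_inv, ih, wval_map_binv_reverse f binv hf]
  | pow a n ih => simp only [WE.evalF, evalW2, map_pow, ih, WE.wval_replicate_flatten]

theorem mk_eq_lift_of {rels : Set (FreeGroup α)} (w : FreeGroup α) :
    PresentedGroup.mk rels w =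
      FreeGroup.lift (fun a => (PresentedGroup.of a : PresentedGroup rels)) w := by
  have : (PresentedGroup.mk rels) =
      (FreeGroup.lift (fun a => (PresentedGroup.of a : PresentedGroup rels))) := by
    ext x
    simp [PresentedGroup.of]
  rw [this]

/-- a relator given by an expression kills the word of the expression -/
theorem wval_eq_one_of_rel {rels : Set (FreeGroup α)} (emb : α → β) (binv : β → β)
    (val : β → PresentedGroup rels) (hval : ∀ a, val (emb a) = PresentedGroup.of a)
    (hbv : ∀ y, val (binv y) = (val y)⁻¹) (e : WE α) (he : e.evalF ∈ rels) :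
    wval val (evalW2 emb binv e) = 1 := by
  rw [← lift_evalF2 emb binv val hbv]
  have : (fun a => val (emb a)) = fun a => (PresentedGroup.of a : PresentedGroup rels) :=
    funext hval
  rw [this, ← mk_eq_lift_of]
  exact PresentedGroup.one_of_mem he

/-- the word of a subgroup generator lies in the subgroup -/
theorem wval_mem_of_gen {rels S : Set (FreeGroup α)} (emb : α → β) (binv : β → β)
    (val : β → PresentedGroup rels) (hval : ∀ a, val (emb a) = PresentedGroup.of a)
    (hbv : ∀ y, val (binv y) = (val y)⁻¹) (e : WE α) (he : e.evalF ∈ S) :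
    wval val (evalW2 emb binv e) ∈ subH rels S := by
  rw [← lift_evalF2 emb binv val hbv]
  have : (fun a => val (emb a)) = fun a => (PresentedGroup.of a : PresentedGroup rels) :=
    funext hval
  rw [this, ← mk_eq_lift_of]
  exact Subgroup.mem_map_of_mem _ (Subgroup.subset_closure he)

namespace PermTable2

variable {binv : β → β} {n : ℕ} (T : PermTable2 β binv n)

theorem wval_perm (w : List β) : wval T.perm w = (w.map T.perm).prod := rfl

/-- a relator expression acts trivially if its word fixes every row -/
theorem lift_eq_one (emb : α → β) (e : WE α)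
    (h : ∀ i, i < n → act T.tf (evalW2 emb binv e) i = i) :
    FreeGroup.lift (fun a => T.perm (emb a)) e.evalF = 1 := by
  rw [lift_evalF2 emb binv T.perm T.perm_binv, T.wval_perm]
  exact T.wordPerm_eq_one _ h

/-- a subgroup generator expression fixes row `0` if its word does -/
theorem lift_fix (emb : α → β) (hn : 0 < n) (e : WE α)
    (h : act T.tf (evalW2 emb binv e) 0 = 0) :
    FreeGroup.lift (fun a => T.perm (emb a)) e.evalF ⟨0, hn⟩ = ⟨0, hn⟩ := by
  rw [lift_evalF2 emb binv T.perm T.perm_binv, T.wval_perm]
  apply Fin.ext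
  rw [T.wordPerm_apply_val]
  exact h

end PermTable2

/-! ### Row checks -/

/-- letters stay in range and inverse letters undo them, at row `i` -/
def permRowOK2 (tf : β → ℕ → ℕ) (binv : β → β) (n : ℕ) (letters : List β) (i : ℕ) : Bool :=
  allList (fun x => band (nlt (tf x i) n) (Nat.beq (tf (binv x) (tf x i)) i)) letters

theorem permRowOK2_spec (tf : β → ℕ → ℕ) (binv : β → β) (n : ℕ) (letters : List β)
    (hg : ∀ x, x ∈ letters) (i : ℕ)
    (h : permRowOK2 tf binv n letters i = true) (x : β) :
    tf x i < n ∧ tf (binv x) (tf x i) = i := by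
  have := allList_spec _ letters h x (hg x)
  rw [band_eq_true] at this
  exact ⟨nlt_eq_true.1 this.1, nbeq_eq_true.1 this.2⟩

/-- Coxeter pairs at row `i`: the relator word is only followed when neither letter
moves the row downwards. -/
def coxRowOK (tf : β → ℕ → ℕ) (pairs : List (β × β × List β)) (i : ℕ) : Bool :=
  allList (fun p => Bool.rec (Bool.rec (Nat.beq (act tf p.2.2 i) i) true (nlt (tf p.2.1 i) i))
    true (nlt (tf p.1 i) i)) pairs

theorem coxRowOK_spec (tf : β → ℕ → ℕ) (pairs : List (β × β × List β)) (i : ℕ)
    (h : coxRowOK tf pairs i = true) (p : β × β × List β) (hp : p ∈ pairs) :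
    tf p.1 i < i ∨ tf p.2.1 i < i ∨ act tf p.2.2 i = i := by
  have := allList_spec _ pairs h p hp
  cases h1 : nlt (tf p.1 i) i with
  | true => exact Or.inl (nlt_eq_true.1 h1)
  | false =>
    rw [h1] at this
    cases h2 : nlt (tf p.2.1 i) i with
    | true => exact Or.inr (Or.inl (nlt_eq_true.1 h2))
    | false =>
      rw [h2] at this
      exact Or.inr (Or.inr (nbeq_eq_true.1 this))

theorem conj_pow_invol {K : Type*} [Group K] (a b : K) (ha : a * a = 1) (m : ℕ) :
    a * (a * b) ^ m * a = (b * a) ^ m := by
  have hai : a⁻¹ = a := inv_eq_of_mul_eq_one_left ha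
  have h1 : a * (a * b) ^ m * a⁻¹ = (a * (a * b) * a⁻¹) ^ m := (conj_pow).symm
  rw [hai] at h1
  rw [h1]
  congr 1
  rw [← mul_assoc, ha, one_mul]

theorem conj_pow_invol' {K : Type*} [Group K] (a b : K) (hb : b * b = 1) (m : ℕ) :
    b * (a * b) ^ m * b = (b * a) ^ m := by
  have hbi : b⁻¹ = b := inv_eq_of_mul_eq_one_left hb
  have h1 : b⁻¹ * (a * b) ^ m * b = (b⁻¹ * (a * b) * b) ^ m := by
    have := (conj_pow (a := b⁻¹) (b := a * b) (i := m)).symm
    rw [inv_inv] at this
    exact this
  rw [hbi] at h1
  rw [h1]
  congr 1
  rw [mul_assoc, mul_assoc, hb, mul_one]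

theorem pow_swap_inv {K : Type*} [Group K] (a b : K) (ha : a * a = 1) (hb : b * b = 1) (m : ℕ) :
    (b * a) ^ m = ((a * b) ^ m)⁻¹ := by
  have hai : a⁻¹ = a := inv_eq_of_mul_eq_one_left ha
  have hbi : b⁻¹ = b := inv_eq_of_mul_eq_one_left hb
  rw [← inv_pow, mul_inv_rev, hai, hbi]

theorem pow_swap_eq_one {K : Type*} [Group K] (a b : K) (m : ℕ) (h : (b * a) ^ m = 1) :
    (a * b) ^ m = 1 := by
  have h1 : a * (b * a) ^ m * a⁻¹ = (a * (b * a) * a⁻¹) ^ m := (conj_pow).symm
  rw [h, mul_one, mul_inv_cancel] at h1
  rw [h1]
  congr 1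
  rw [mul_assoc, mul_assoc, mul_inv_cancel, mul_one]

theorem prod_replicate_pair {K : Type*} [Group K] (f : β → K) (x y : β) (m : ℕ) :
    ((List.replicate m [x, y]).flatten.map f).prod = (f x * f y) ^ m := by
  induction m with
  | zero => simp
  | succ m ih =>
    rw [List.replicate_succ, List.flatten_cons, List.map_append, List.prod_append, ih, pow_succ']
    simp

/-- The skipping check of a Coxeter pair proves the relation. -/
theorem cox_pair_perm {binv : β → β} {n : ℕ} (T : PermTable2 β binv n) (x y : β) (m : ℕ)
    (hx : binv x = x) (hy : binv y = y)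
    (h : ∀ i, i < n → T.tf x i < i ∨ T.tf y i < i ∨
      act T.tf ((List.replicate m [x, y]).flatten) i = i) :
    (T.perm x * T.perm y) ^ m = 1 := by
  have hpx : T.perm x * T.perm x = 1 := by
    have := T.perm_binv x
    rw [hx] at this
    nth_rewrite 1 [this]
    exact inv_mul_cancel _
  have hpy : T.perm y * T.perm y = 1 := by
    have := T.perm_binv y
    rw [hy] at this
    nth_rewrite 1 [this]
    exact inv_mul_cancel _
  set σ := (T.perm x * T.perm y) ^ m with hσ
  have key : ∀ k, ∀ i : Fin n, i.val = k → σ i = i := by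
    intro k
    induction k using Nat.strong_induction_on with
    | _ k ih =>
      intro i hik
      rcases h i.val i.2 with h1 | h1 | h1
      · -- x moves the row down
        have hlt : (T.perm x i).val < k := by rw [← hik]; exact h1
        have hfix := ih _ hlt (T.perm x i) rfl
        have hinv : σ⁻¹ i = i := by
          rw [hσ, ← pow_swap_inv _ _ hpx hpy, ← conj_pow_invol _ _ hpx]
          simp only [Equiv.Perm.mul_apply]
          rw [← hσ, hfix]
          have := congrArg (fun p => p i) hpx
          simpa using this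
        exact (Equiv.Perm.inv_eq_iff_eq.1 hinv).symm
      · have hlt : (T.perm y i).val < k := by rw [← hik]; exact h1
        have hfix := ih _ hlt (T.perm y i) rfl
        have hinv : σ⁻¹ i = i := by
          rw [hσ, ← pow_swap_inv _ _ hpx hpy, ← conj_pow_invol' _ _ hpy]
          simp only [Equiv.Perm.mul_apply]
          rw [← hσ, hfix]
          have := congrArg (fun p => p i) hpy
          simpa using this
        exact (Equiv.Perm.inv_eq_iff_eq.1 hinv).symm
      · apply Fin.ext
        rw [hσ, ← prod_replicate_pair T.perm x y m, T.wordPerm_apply_val]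
        exact h1
  ext i
  rw [key i.val i rfl]
  rfl

/-! ### Relators containing a high power -/

/-- iterate a function -/
def iter (f : ℕ → ℕ) (m : ℕ) (i : ℕ) : ℕ := Nat.rec (motive := fun _ => ℕ) i (fun _ ih => f ih) m

theorem iter_zero (f : ℕ → ℕ) (i : ℕ) : iter f 0 i = i := rfl
theorem iter_succ (f : ℕ → ℕ) (m i : ℕ) : iter f (m + 1) i = f (iter f m i) := rfl

/-- check of a relator `pre * w^m * post` at row `i`, with `tau` the table of `w` -/
def powRowOK (tf : β → ℕ → ℕ) (tau : ℕ → ℕ) (pre w post : List β) (m : ℕ) (i : ℕ) : Bool :=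
  band (Nat.beq (tau i) (act tf w i)) (Nat.beq (act tf pre (iter tau m (act tf post i))) i)

theorem powRowOK_sound {binv : β → β} {n : ℕ} (T : PermTable2 β binv n) (tau : ℕ → ℕ)
    (pre w post : List β) (m : ℕ)
    (h : ∀ i, i < n → powRowOK T.tf tau pre w post m i = true) :
    ∀ i, i < n → act T.tf (pre ++ (List.replicate m w).flatten ++ post) i = i := by
  have htau : ∀ j, j < n → tau j = act T.tf w j := by
    intro j hj
    have := h j hj
    unfold powRowOK at this
    rw [band_eq_true] at this
    exact nbeq_eq_true.1 this.1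
  have hit : ∀ k j, j < n → iter tau k j < n ∧
      iter tau k j = act T.tf ((List.replicate k w).flatten) j := by
    intro k
    induction k with
    | zero => intro j hj; exact ⟨hj, rfl⟩
    | succ k ih =>
      intro j hj
      obtain ⟨h1, h2⟩ := ih j hj
      rw [iter_succ, List.replicate_succ, List.flatten_cons, act_append, ← h2, htau _ h1]
      exact ⟨T.act_lt w _ h1, rfl⟩
  intro i hi
  have := h i hi
  unfold powRowOK at this
  rw [band_eq_true] at this
  have h2 := nbeq_eq_true.1 this.2
  rw [act_append, act_append, ← (hit m _ (T.act_lt post i hi)).2]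
  exact h2

/-- check of a list of power items `(tauIndex, pre, w, post, m)` at row `i` -/
def powRowsOK (tf : β → ℕ → ℕ) (tau : ℕ → ℕ → ℕ)
    (items : List (ℕ × List β × List β × List β × ℕ)) (i : ℕ) : Bool :=
  allList (fun it => powRowOK tf (tau it.1) it.2.1 it.2.2.1 it.2.2.2.1 it.2.2.2.2 i) items

/-- the relator word of a power item -/
def powWord (it : ℕ × List β × List β × List β × ℕ) : List β :=
  it.2.1 ++ (List.replicate it.2.2.2.2 it.2.2.1).flatten ++ it.2.2.2.1

theorem powRowsOK_sound {binv : β → β} {n : ℕ} (T : PermTable2 β binv n) (tau : ℕ → ℕ → ℕ)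
    (items : List (ℕ × List β × List β × List β × ℕ))
    (h : ∀ i, i < n → powRowsOK T.tf tau items i = true)
    (it : ℕ × List β × List β × List β × ℕ) (hit : it ∈ items) :
    ∀ i, i < n → act T.tf (powWord it) i = i :=
  powRowOK_sound T (tau it.1) it.2.1 it.2.2.1 it.2.2.2.1 it.2.2.2.2
    (fun i hi => allList_spec _ items (h i hi) it hit)

end Cfsg.Agent.Lib.Helper28.TC2
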