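/-
Verified coset-enumeration certificates (Todd–Coxeter proof checking), part 1:
kernel-friendly Boolean combinators written with raw recursors, and their specifications.
-/
import Mathlib

set_option autoImplicit false

namespace Cfsg.Agent.Lib.Helper28.TC

/-- Boolean conjunction by recursion on the first argument. -/
def band (a b : Bool) : Bool := Bool.rec false b a

theorem band_eq_true {a b : Bool} : band a b = true ↔ a = true ∧ b = true := by
  cases a <;> cases b <;> simp [band]

/-- `a < b` on naturals as a Boolean, via `Nat.ble`. -/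
def nlt (a b : ℕ) : Bool := Nat.ble (Nat.succ a) b

theorem nlt_eq_true {a b : ℕ} : nlt a b = true ↔ a < b := by
  simp [nlt, Nat.ble_eq, Nat.succ_le_iff]

theorem nbeq_eq_true {a b : ℕ} : Nat.beq a b = true ↔ a = b := by
  constructor
  · exact Nat.eq_of_beq_eq_true
  · rintro rfl; exact Nat.beq_refl a

/-- All `i` in `[lo, lo + 2^d)` satisfy `p`, by binary splitting (recursion depth `d`). -/
def allRange (p : ℕ → Bool) (d lo : ℕ) : Bool :=
  Nat.rec (motive := fun _ => ℕ → Bool) (fun lo => p lo)
    (fun d ih lo => band (ih lo) (ih (Nat.add lo (Nat.pow 2 d)))) d lo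

theorem allRange_zero (p : ℕ → Bool) (lo : ℕ) : allRange p 0 lo = p lo := rfl

theorem allRange_succ (p : ℕ → Bool) (d lo : ℕ) :
    allRange p (d + 1) lo = band (allRange p d lo) (allRange p d (lo + 2 ^ d)) := rfl

theorem allRange_spec (p : ℕ → Bool) (d : ℕ) : ∀ lo : ℕ, allRange p d lo = true →
    ∀ i, lo ≤ i → i < lo + 2 ^ d → p i = true := by
  induction d with
  | zero =>
    intro lo h i h1 h2
    rw [allRange_zero] at h
    have : i = lo := by omega
    rw [this]; exact h
  | succ d ih =>
    intro lo h i h1 h2
    rw [allRange_succ, band_eq_true] at h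
    by_cases hi : i < lo + 2 ^ d
    · exact ih lo h.1 i h1 hi
    · refine ih (lo + 2 ^ d) h.2 i (by omega) ?_
      rw [pow_succ] at h2; omega

/-- All members of a list satisfy `p`. -/
def allList {β : Type} (p : β → Bool) (l : List β) : Bool :=
  List.rec true (fun b _ ih => band (p b) ih) l

theorem allList_nil {β : Type} (p : β → Bool) : allList p [] = true := rfl

theorem allList_cons {β : Type} (p : β → Bool) (b : β) (l : List β) :
    allList p (b :: l) = band (p b) (allList p l) := rfl

theorem allList_spec {β : Type} (p : β → Bool) (l : List β) :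
    allList p l = true → ∀ b ∈ l, p b = true := by
  induction l with
  | nil => intro _ b hb; cases hb
  | cons a l ih =>
    intro h b hb
    rw [allList_cons, band_eq_true] at h
    rcases List.mem_cons.1 hb with rfl | hb
    · exact h.1
    · exact ih h.2 b hb

/-- Blocks `[k*2^d, (k+1)*2^d)` for `k < m` all satisfy `p`: gives all `i < m * 2^d`. -/
theorem allBlocks_spec (p : ℕ → Bool) (d m : ℕ)
    (h : ∀ k < m, allRange p d (k * 2 ^ d) = true) : ∀ i < m * 2 ^ d, p i = true := by
  intro i hi
  have hpos : 0 < 2 ^ d := Nat.pos_of_ne_zero (by positivity)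
  have hk : i / 2 ^ d < m := Nat.div_lt_of_lt_mul (by rwa [Nat.mul_comm] at hi)
  refine allRange_spec p d _ (h _ hk) i ?_ ?_
  · exact Nat.div_mul_le_self i (2 ^ d)
  · have := Nat.lt_div_mul_add hpos (a := i)
    omega

/-- Entry `i` of a packed table of `b`-bit entries (`m = 2^b - 1`). -/
def look (tab b m i : ℕ) : ℕ := Nat.land (Nat.shiftRight tab (Nat.mul b i)) m

/-- Action of a word on rows: the first letter is applied last (left action). -/
def act {α : Type} (t : α → ℕ → ℕ) (w : List α) (u : ℕ) : ℕ :=
  List.rec u (fun x _ ih => t x ih) w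

theorem act_nil {α : Type} (t : α → ℕ → ℕ) (u : ℕ) : act t [] u = u := rfl

theorem act_cons {α : Type} (t : α → ℕ → ℕ) (x : α) (w : List α) (u : ℕ) :
    act t (x :: w) u = t x (act t w u) := rfl

theorem act_append {α : Type} (t : α → ℕ → ℕ) (w₁ w₂ : List α) (u : ℕ) :
    act t (w₁ ++ w₂) u = act t w₁ (act t w₂ u) := by
  induction w₁ with
  | nil => rfl
  | cons x w ih => simp only [List.cons_append, act_cons, ih]

/-- does the list have letter `x` at (0-based) position `i`? -/
def isLetterAt {α : Type} [DecidableEq α] (l : List α) (i : ℕ) (x : α) : Bool :=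
  List.rec (motive := fun _ => ℕ → Bool) (fun _ => false)
    (fun y _ ih i => Nat.rec (motive := fun _ => Bool) (decide (y = x)) (fun i' _ => ih i') i) l i

theorem isLetterAt_nil {α : Type} [DecidableEq α] (i : ℕ) (x : α) :
    isLetterAt ([] : List α) i x = false := rfl

theorem isLetterAt_cons_zero {α : Type} [DecidableEq α] (y : α) (l : List α) (x : α) :
    isLetterAt (y :: l) 0 x = decide (y = x) := rfl

theorem isLetterAt_cons_succ {α : Type} [DecidableEq α] (y : α) (l : List α) (i : ℕ) (x : α) :
    isLetterAt (y :: l) (i + 1) x = isLetterAt l i x := rfl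

theorem isLetterAt_spec {α : Type} [DecidableEq α] (l : List α) : ∀ (i : ℕ) (x : α),
    isLetterAt l i x = true → l = l.take i ++ x :: l.drop (i + 1) := by
  induction l with
  | nil => intro i x h; rw [isLetterAt_nil] at h; cases h
  | cons y l ih =>
    intro i x h
    cases i with
    | zero =>
      rw [isLetterAt_cons_zero] at h
      have : y = x := of_decide_eq_true h
      simp [this]
    | succ i =>
      rw [isLetterAt_cons_succ] at h
      have := ih i x h
      simp only [List.take_succ_cons, List.drop_succ_cons, List.cons_append]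
      rw [← this]

end Cfsg.Agent.Lib.Helper28.TC
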