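/-
Verified coset-enumeration certificates, part 6: the image of an `H`-orbit on `G ⧸ H` under the
coset bijection, as a set (used to separate orbits).
-/
import Cfsg.Agent.Lib.Helper28.TCOrbit

set_option autoImplicit false

namespace Cfsg.Agent.Lib.Helper28.TC

variable {α : Type} {rels : Set (FreeGroup α)} {S : Set (FreeGroup α)} {n : ℕ}

/-- The image of an `H`-orbit on `G ⧸ H` under the coset bijection is the certified set. -/
theorem orbit_image_of_cert (T : PermTable α n)
    (hrel : ∀ r ∈ rels, FreeGroup.lift T.perm r = 1)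
    (e : (PresentedGroup rels ⧸ subH rels S) ≃ Fin n)
    (hequiv : ∀ (g : PresentedGroup rels) (q : PresentedGroup rels ⧸ subH rels S),
      e (g • q) = (PresentedGroup.toGroup hrel g) (e q))
    (words : List (List α))
    (hS : ∀ s ∈ S, ∃ w ∈ words, FreeGroup.lift T.perm s = (w.map T.perm).prod)
    (hW : ∀ w ∈ words, ∃ s ∈ S, FreeGroup.lift T.perm s = (w.map T.perm).prod)
    (O : OrbCert) (hroot : O.root < n) (hrootin : O.inO O.root = true)
    (hrows : ∀ i, i < n → orbRowOK T.tf n words O i = true) :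
    e '' (MulAction.orbit (subH rels S) (e.symm ⟨O.root, hroot⟩)) =
      {i : Fin n | O.inO i = true} := by
  classical
  let φ : PresentedGroup rels →* Equiv.Perm (Fin n) := PresentedGroup.toGroup hrel
  have himage : (subH rels S).map φ = Subgroup.closure (wordPerms T words) := by
    rw [subH, Subgroup.map_map, MonoidHom.map_closure]
    congr 1
    ext p
    constructor
    · rintro ⟨s, hs, rfl⟩
      obtain ⟨w, hw, h⟩ := hS s hs
      exact ⟨w, hw, by rw [← h]; rfl⟩
    · rintro ⟨w, hw, rfl⟩
      obtain ⟨s, hs, h⟩ := hW w hw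
      exact ⟨s, hs, by rw [← h]; rfl⟩
  let r0 : Fin n := ⟨O.root, hroot⟩
  have himg : e '' (MulAction.orbit (subH rels S) (e.symm r0)) =
      MulAction.orbit (Subgroup.closure (wordPerms T words)) r0 := by
    ext i
    constructor
    · rintro ⟨x, ⟨⟨h, hh⟩, rfl⟩, rfl⟩
      have hmem : φ h ∈ Subgroup.closure (wordPerms T words) := by
        rw [← himage]; exact Subgroup.mem_map_of_mem φ hh
      refine ⟨⟨φ h, hmem⟩, ?_⟩
      show φ h r0 = e (h • e.symm r0)
      rw [hequiv h (e.symm r0), Equiv.apply_symm_apply]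
    · rintro ⟨⟨g, hg⟩, rfl⟩
      rw [← himage] at hg
      obtain ⟨h, hh, rfl⟩ := hg
      refine ⟨h • e.symm r0, ⟨⟨h, hh⟩, rfl⟩, ?_⟩
      rw [hequiv h (e.symm r0), Equiv.apply_symm_apply]
      rfl
  rw [himg, orbit_eq_of_cert T words O hroot hrootin hrows]

/-- Two certified orbits are different when the root of the second is not in the first. -/
theorem orbit_ne_of_cert (T : PermTable α n)
    (hrel : ∀ r ∈ rels, FreeGroup.lift T.perm r = 1)
    (e : (PresentedGroup rels ⧸ subH rels S) ≃ Fin n)
    (hequiv : ∀ (g : PresentedGroup rels) (q : PresentedGroup rels ⧸ subH rels S),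
      e (g • q) = (PresentedGroup.toGroup hrel g) (e q))
    (words : List (List α))
    (hS : ∀ s ∈ S, ∃ w ∈ words, FreeGroup.lift T.perm s = (w.map T.perm).prod)
    (hW : ∀ w ∈ words, ∃ s ∈ S, FreeGroup.lift T.perm s = (w.map T.perm).prod)
    (O : OrbCert) (hroot : O.root < n) (hrootin : O.inO O.root = true)
    (hrows : ∀ i, i < n → orbRowOK T.tf n words O i = true)
    (r' : ℕ) (hr' : r' < n) (hnot : O.inO r' = false) :
    MulAction.orbit (subH rels S) (e.symm ⟨O.root, hroot⟩) ≠
      MulAction.orbit (subH rels S) (e.symm ⟨r', hr'⟩) := by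
  intro heq
  have hmem : e.symm ⟨r', hr'⟩ ∈ MulAction.orbit (subH rels S) (e.symm ⟨O.root, hroot⟩) := by
    rw [heq]; exact MulAction.mem_orbit_self _
  have himg := orbit_image_of_cert T hrel e hequiv words hS hW O hroot hrootin hrows
  have : (⟨r', hr'⟩ : Fin n) ∈ e '' (MulAction.orbit (subH rels S) (e.symm ⟨O.root, hroot⟩)) :=
    ⟨_, hmem, Equiv.apply_symm_apply e _⟩
  rw [himg] at this
  have h2 : O.inO r' = true := this
  rw [hnot] at h2
  cases h2

end Cfsg.Agent.Lib.Helper28.TC
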